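import Groth.Agent.AlgSpRlim.Main
import Groth.Agent.ModEtQCoh.Push
import Groth.Agent.ModEtQCoh.Closure
import Groth.Agent.DAlg.RFTriangle
import Groth.Agent.Misc4.RFBounded
import Groth.Agent.AlgSpBasic.AffineMor

/-!
# Total direct images along affine morphisms of algebraic spaces are conservative on `D_QCoh`
-/

set_option autoImplicit false
set_option backward.isDefEq.respectTransparency false
set_option linter.style.haveILetI false
set_option maxHeartbeats 1000000
universe w v u

open CategoryTheory CategoryTheory.Limits AlgebraicGeometry Opposite AlgSp Groth.ModEtQCoh Pretriangulated DerivedCategory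

attribute [local instance] HasDerivedCategory.standard

noncomputable section

namespace Groth.AlgSpRlim

section General

variable {A : Type u} [Category.{v} A] [Abelian A] [HasDerivedCategory.{w} A]

/-- A morphism from a shifted object into a K-injective complex comes from a cycle. -/
lemma exists_cycle_of_hom (P : A) (q : ℤ) (K : CochainComplex A ℤ) [K.IsKInjective]
    (f : (singleFunctor A q).obj P ⟶ Q.obj K) :
    ∃ z : P ⟶ K.cycles q, hMap P q (Q.obj K) f = z ≫ K.homologyπ q ≫ (homologyFunctorFactors A q).inv.app K := by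
  let S := (HomologicalComplex.single A (ComplexShape.up ℤ) q).obj P
  let e : (singleFunctor A q).obj P ≅ Q.obj S := (singleFunctorIsoCompQ A q).app P
  let qS := (HomotopyCategory.quotient A (ComplexShape.up ℤ)).obj S
  obtain ⟨φ, hφ⟩ := (CochainComplex.IsKInjective.Qh_map_bijective qS K).2
    ((quotientCompQhIso A).hom.app S ≫ e.inv ≫ f ≫ (quotientCompQhIso A).inv.app K)
  obtain ⟨g, rfl⟩ := (HomotopyCategory.quotient A (ComplexShape.up ℤ)).map_surjective φ
  have hf : f = e.hom ≫ Q.map g := by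
    have hn := (quotientCompQhIso A).hom.naturality g
    simp only [Functor.comp_map, hφ, Category.assoc] at hn
    rw [← cancel_epi e.inv, ← cancel_epi ((quotientCompQhIso A).hom.app S), e.inv_hom_id_assoc]
    simpa using hn
  haveI : IsIso (S.homologyπ q) := by
    have h := HomologicalComplex.singleObjCyclesSelfIso_inv_homologyπ (ComplexShape.up ℤ) q P
    rw [Iso.inv_comp_eq] at h
    rw [h]
    infer_instance
  have hn : (homologyFunctor A q).map (Q.map g) = (homologyFunctorFactors A q).hom.app S ≫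
      HomologicalComplex.homologyMap g q ≫ (homologyFunctorFactors A q).inv.app K := by
    have h := (homologyFunctorFactors A q).hom.naturality g
    refine ((cancel_mono ((homologyFunctorFactors A q).hom.app K)).1 (h.trans ?_))
    simp only [Category.assoc, Iso.inv_hom_id_app]
    erw [Category.comp_id]
    rfl
  refine ⟨(hMap P q (Q.obj S) e.hom ≫ (homologyFunctorFactors A q).hom.app S) ≫ inv (S.homologyπ q) ≫
    HomologicalComplex.cyclesMap g q, ?_⟩
  rw [hf, hMap_comp, hn]
  simp only [Category.assoc, ← HomologicalComplex.homologyπ_naturality_assoc, IsIso.inv_hom_id_assoc]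

/-- The middle term of a five term exact sequence is an extension of a kernel by a cokernel. -/
lemma exists_shortExact_of_exact₅ {M₁ M₂ M₃ N₁ N₂ : A} {φ : M₁ ⟶ M₂} {m : M₂ ⟶ M₃} {δ : M₃ ⟶ N₁} {ψ : N₁ ⟶ N₂}
    (w₁ : φ ≫ m = 0) (w₂ : m ≫ δ = 0) (w₃ : δ ≫ ψ = 0) (e1 : (ShortComplex.mk φ m w₁).Exact)
    (e2 : (ShortComplex.mk m δ w₂).Exact) (e3 : (ShortComplex.mk δ ψ w₃).Exact) :
    ∃ (i₀ : cokernel φ ⟶ M₃) (p₀ : M₃ ⟶ kernel ψ) (w : i₀ ≫ p₀ = 0), (ShortComplex.mk i₀ p₀ w).ShortExact := by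
  haveI : Mono (cokernel.desc φ m w₁) := (ShortComplex.exact_iff_mono_cokernel_desc _).1 e1
  haveI : Epi (kernel.lift ψ δ w₃) := (ShortComplex.exact_iff_epi_kernel_lift _).1 e3
  refine ⟨cokernel.desc φ m w₁, kernel.lift ψ δ w₃, ?_, ?_⟩
  · rw [← cancel_epi (cokernel.π φ), ← cancel_mono (kernel.ι ψ)]
    simp [w₂]
  · refine ShortComplex.ShortExact.mk ?_
    rw [ShortComplex.exact_iff_exact_up_to_refinements]
    intro Z z hz
    have hz' : z ≫ δ = 0 := by
      have h := congrArg (· ≫ kernel.ι ψ) hz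
      simpa using h
    obtain ⟨Z', π, hπ, y, hy⟩ := e2.exact_up_to_refinements z hz'
    exact ⟨Z', π, hπ, y ≫ cokernel.π φ, by simpa using hy⟩

end General

variable {S : Scheme.{u}} {X Y : Sp S} {f : X ⟶ Y} (hf : Representable f)

lemma exists_bc_chart (hY : IsAlgSpace Y) (W : EtOver X) (w : W.obj.left.left) :
    ∃ (V : EtOver X) (k : V ⟶ W) (E : EtOver Y) (_ : V ⟶ EtOver.bcObj hf E) (v : V.obj.left.left),
      IsAffine V.obj.left.left ∧ IsAffine E.obj.left.left ∧ k.hom.left.left v = w := by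
  obtain ⟨U, p, hp, hps⟩ := hY.atlas
  let x := Points.ofPt W.obj.hom w
  obtain ⟨u₀, hu₀⟩ := Groth.AlgSpBasic.surjective_ofPt_of_repWith hps (Points.map f x)
  obtain ⟨E, j, u, hE, hju⟩ := exists_affine_chart_of_ofPt (EtOver.mk p hp) u₀
  have hxu : Points.map f x = Points.ofPt E.obj.hom u := by
    rw [← EtOver.w j, Groth.AlgSpBasic.ofPt_comp_yon, hju]
    exact hu₀.symm
  obtain ⟨b, hb, -⟩ := (Groth.AlgSpBasic.map_eq_ofPt_iff (EtOver.isPullback_bcObj hf E) x u).1 hxu
  obtain ⟨V, k, l, v, hV, hk, -⟩ := exists_common_chart W (EtOver.bcObj hf E) w b hb.symm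
  exact ⟨V, k, E, l, v, hV, hE, hk⟩

/-- A quasi-coherent module whose direct image vanishes on affine objects vanishes. -/
lemma isZero_of_push_zero (hY : IsAlgSpace Y) (haff : RepWith @IsAffineHom f) (M : ModEt X) [M.IsQuasicoherent]
    (h : ∀ (E : EtOver Y), IsAffine E.obj.left.left → ∀ s : sectModEt M (EtOver.bcObj hf E), s = 0) :
    IsZero M := by
  have h0 : ∀ (W : EtOver X) (s : sectModEt M W), s = 0 := fun W s => by
    choose V k E l v hV hE hk using exists_bc_chart hf hY W
    refine resM_ext M (g := k) (fun x => ⟨x, v x, hk x⟩) fun x => ?_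
    haveI := hV x
    haveI := hE x
    haveI := isAffine_bc hf haff (E x)
    obtain ⟨z, hz⟩ := (hasBC_of_isQuasicoherent M (l x)).2 (resM M (k x) s)
    rw [map_zero, ← hz]
    let := (resA (l x)).toAlgebra
    have hz0 : ∀ z' : Tens (resA (l x)) (sectModEt M (EtOver.bcObj hf (E x))), z' = 0 := fun z' => by
      induction z' using TensorProduct.induction_on with
      | zero => rfl
      | tmul b n => rw [h (E x) (hE x) n, TensorProduct.tmul_zero]
      | add a b ha hb => rw [ha, hb, add_zero]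
    rw [hz0 z, map_zero]
  rw [IsZero.iff_id_eq_zero]
  ext ⟨W⟩ s
  exact (h0 W s).trans (h0 W _).symm

lemma exists_local_boundary {C : ShortComplex (ModEt Y)} (hC : C.Exact) {E : EtOver Y} [IsAffine E.obj.left.left]
    (w : sectModEt C.X₂ E) (hw : appM C.g E w = 0) :
    ∃ (n : ℕ) (Z : Fin n → EtOver Y) (a : ∀ i, Z i ⟶ E), JointlySurj a ∧
      ∀ i, ∃ x, appM C.f (Z i) x = resM C.X₂ (a i) w := by
  haveI := (ShortComplex.exact_iff_epi_kernel_lift _).1 hC
  obtain ⟨κ, hκ⟩ := exists_preimage_kernel C.g hw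
  obtain ⟨n, Z, a, -, hcov, hl⟩ := exists_affine_cover (imageSieve_mem_of_epi (kernel.lift C.g C.f C.zero) κ)
  refine ⟨n, Z, a, hcov, fun i => ?_⟩
  obtain ⟨x, hx⟩ := hl i
  refine ⟨x, ?_⟩
  rw [← hκ, ← appM_resM]
  exact ((congrArg (fun k => appM k (Z i) x) (kernel.lift_ι C.g C.f C.zero)).symm.trans
    (appM_comp (kernel.lift C.g C.f C.zero) (kernel.ι C.g) (Z i) x)).trans
      (congrArg (appM (kernel.ι C.g) (Z i)) hx)

set_option maxHeartbeats 4000000 in
/-- Cohomology of a K-injective complex with quasi-coherent cohomology and acyclic direct image vanishes. -/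
lemma isZero_of_acyclic_push (hY : IsAlgSpace Y) (haff : RepWith @IsAffineHom f) (K : CochainComplex (ModEt X) ℤ)
    [K.IsKInjective] (hK : DCoh.IsQCohDMod (OEtRing X) (Q.obj K))
    (hac : (((pushModEt hf).mapHomologicalComplex (ComplexShape.up ℤ)).obj K).Acyclic) (q : ℤ) :
    IsZero (DCoh.HDMod (OEtRing X) (Q.obj K) q) := by
  haveI := hK q
  refine isZero_of_push_zero hf hY haff _ fun E hE s => ?_
  haveI := hE
  obtain ⟨g, rfl⟩ := (bijective_sel_of_good (Q.obj K) (fun i => haveI := hK i; good_of_isQuasicoherent _) q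
    (EtOver.bcObj hf E) (isAffine_bc hf haff E)).2 s
  obtain ⟨z, hz⟩ := exists_cycle_of_hom (pE (EtOver.bcObj hf E)) q K g
  let π := K.homologyπ q ≫ (homologyFunctorFactors (ModEt X) q).inv.app K
  let c := pHom (EtOver.bcObj hf E) _ z
  have hs : sel (EtOver.bcObj hf E) q (Q.obj K) g = appM π (EtOver.bcObj hf E) c := by
    unfold sel
    exact (congrArg (pHom (EtOver.bcObj hf E) _) hz).trans (pHom_comp z π)
  let P := ((pushModEt hf).mapHomologicalComplex (ComplexShape.up ℤ)).obj K
  let w : sectModEt (P.X q) E := appM (K.iCycles q) (EtOver.bcObj hf E) c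
  have hw : appM (P.d q (q + 1)) E w = 0 :=
    appM_comp_eq_zero (K.iCycles_d q (q + 1)) (EtOver.bcObj hf E) c
  have hex := (HomologicalComplex.exactAt_iff' P (q - 1) q (q + 1) (by simp) (by simp)).1 (hac q)
  obtain ⟨n, Z, a, hcov, hl⟩ : ∃ (n : ℕ) (Z : Fin n → EtOver Y) (a : ∀ i, Z i ⟶ E), JointlySurj a ∧
      ∀ i, ∃ x : sectModEt (P.X (q - 1)) (Z i), appM (P.d (q - 1) q) (Z i) x = resM (P.X q) (a i) w :=
    exists_local_boundary hex w hw
  rw [hs]
  refine resM_ext ((pushModEt hf).obj (DCoh.HDMod (OEtRing X) (Q.obj K) q)) hcov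
    (s := appM π (EtOver.bcObj hf E) c) (t := 0) fun i => ?_
  rw [map_zero]
  obtain ⟨x, hx⟩ := hl i
  let V := EtOver.bcObj hf (Z i)
  let b : V ⟶ EtOver.bcObj hf E := (EtOver.bc hf).map (a i)
  show resM _ b (appM π (EtOver.bcObj hf E) c) = 0
  rw [← appM_resM]
  have h1 : appM (K.toCycles (q - 1) q) V x = resM _ b c := by
    refine appM_injective_of_mono (K.iCycles q) V ?_
    rw [appM_resM]
    have e1 : appM (K.iCycles q) V (appM (K.toCycles (q - 1) q) V x) = appM (K.d (q - 1) q) V x :=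
      (appM_comp _ _ _ _).symm.trans (congrArg (fun k => appM k V x) (K.toCycles_i (q - 1) q))
    have e2 : appM (K.d (q - 1) q) V x = resM (K.X q) b w := hx
    rw [e1, e2]
  refine (congrArg (appM π V) h1.symm).trans ?_
  exact appM_comp_eq_zero (show K.toCycles (q - 1) q ≫ π = 0 from
    (HomologicalComplex.toCycles_comp_homologyπ_assoc K (q - 1) q _).trans zero_comp) V x

lemma isQCohDMod_of_triangle {T : Triangle (DModEt X)} (hT : T ∈ distTriang _)
    (h₁ : DCoh.IsQCohDMod (OEtRing X) T.obj₁) (h₂ : DCoh.IsQCohDMod (OEtRing X) T.obj₂) :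
    DCoh.IsQCohDMod (OEtRing X) T.obj₃ := by
  intro q
  let H := fun i => homologyFunctor (ModEt X) i
  let φ := (H q).map T.mor₁
  let ψ := (H (q + 1)).map T.mor₁
  let m := (H q).map T.mor₂
  let δ := HomologySequence.δ T q (q + 1) rfl
  have b₁ : ∀ i, HasBC ((H i).obj T.obj₁) := fun i => haveI := h₁ i; hasBC_of_isQuasicoherent _
  have b₂ : ∀ i, HasBC ((H i).obj T.obj₂) := fun i => haveI := h₂ i; hasBC_of_isQuasicoherent _
  refine isQuasicoherent_of_hasBC ?_
  have e1 := HomologySequence.exact₂ T hT q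
  have e2 := HomologySequence.exact₃ T hT q (q + 1) rfl
  have e3 := HomologySequence.exact₁ T hT q (q + 1) rfl
  obtain ⟨i₀, p₀, w, hse⟩ := exists_shortExact_of_exact₅ _ _ _ e1 e2 e3
  exact hasBC_middle (C := ShortComplex.mk i₀ p₀ w) hse (hasBC_cokernel (b₁ q) (b₂ q) φ)
    (hasBC_kernel (b₁ (q + 1)) (b₂ (q + 1)) ψ)

/-- `Rf_*` along an affine morphism reflects isomorphisms of complexes with quasi-coherent cohomology. -/
theorem isIso_of_isIso_Rpush (hY : IsAlgSpace Y) (haff : RepWith @IsAffineHom f) [HasRpushModEtD hf]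
    {E F : DModEt X} (hE : DCoh.IsQCohDMod (OEtRing X) E) (hF : DCoh.IsQCohDMod (OEtRing X) F) (α : E ⟶ F)
    [IsIso ((RpushModEtD hf).map α)] : IsIso α := by
  obtain ⟨C, i, p, hT⟩ := distinguished_cocone_triangle α
  let β := (pushModEtKh hf).totalRightDerivedUnit DerivedCategory.Qh
    (HomotopyCategory.quasiIso (ModEt X) (ComplexShape.up ℤ))
  obtain ⟨c, hc⟩ := Groth.DAlg.RFTriangle.exists_distinguished (pushModEt hf) (RpushModEtD hf) β _ hT
  have hz : IsZero ((RpushModEtD hf).obj C) :=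
    (Triangle.isZero₃_iff_isIso₁ _ hc).2 (inferInstanceAs (IsIso ((RpushModEtD hf).map α)))
  obtain ⟨J, hJ, ⟨eJ⟩⟩ := Groth.DAlg.RFTriangle.exists_model C
  let eJ' : Q.obj J ≅ C := ((quotientCompQhIso (ModEt X)).app J).symm ≪≫ eJ
  obtain ⟨eP⟩ := Groth.Misc4.RFBounded.nonempty_iso_of_model (pushModEt hf) (RpushModEtD hf) β J eJ'
  have hac : (((pushModEt hf).mapHomologicalComplex (ComplexShape.up ℤ)).obj J).Acyclic := fun n => by
    rw [HomologicalComplex.exactAt_iff_isZero_homology]
    exact ((homologyFunctor (ModEt Y) n).map_isZero (hz.of_iso eP.symm)).of_iso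
      ((homologyFunctorFactors (ModEt Y) n).app _).symm
  have hC : DCoh.IsQCohDMod (OEtRing X) C := isQCohDMod_of_triangle hT hE hF
  have hJC : DCoh.IsQCohDMod (OEtRing X) (Q.obj J) := fun n =>
    (SheafOfModules.isQuasicoherent (OEtRing X)).prop_of_iso
      ((homologyFunctor (ModEt X) n).mapIso eJ'.symm) (hC n)
  refine (Triangle.isZero₃_iff_isIso₁ _ hT).1 ?_
  refine IsZero.of_iso ?_ eJ'.symm
  have : (Q.obj J).IsGE 1 ∧ (Q.obj J).IsLE 0 := by
    refine ⟨?_, ?_⟩
    · rw [DerivedCategory.isGE_iff]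
      exact fun n _ => isZero_of_acyclic_push hf hY haff J hJC hac n
    · rw [DerivedCategory.isLE_iff]
      exact fun n _ => isZero_of_acyclic_push hf hY haff J hJC hac n
  obtain ⟨h1, h2⟩ := this
  haveI := h1
  haveI := h2
  exact TStructure.t.isZero (Q.obj J) 0 1 (by omega)

end Groth.AlgSpRlim

end
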