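import Groth.Agent.AlgSpRlim.HMap
import Mathlib.Algebra.Homology.DerivedCategory.Ext.Basic
import Mathlib.CategoryTheory.Triangulated.TStructure.TruncLEGT

/-!
# `Hom(P[-q], K) = Hom(P, H^q K)` for bounded below `K` with `Ext`-acyclic cohomology
-/

set_option autoImplicit false
set_option backward.isDefEq.respectTransparency false

universe w' w v u

open CategoryTheory CategoryTheory.Limits Pretriangulated Abelian Triangulated

namespace Groth.AlgSpRlim

variable {A : Type u} [Category.{v} A] [Abelian A] [HasDerivedCategory.{w} A] [HasExt.{w'} A]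

open DerivedCategory

/-- `P` has no higher extensions into `M`. -/
def NoExt (P M : A) : Prop := ∀ n : ℕ, Subsingleton (Ext.{w'} P M (n + 1))

omit [HasDerivedCategory.{w} A] in
lemma NoExt.of_iso {P M M' : A} (h : NoExt.{w'} P M) (e : M ≅ M') : NoExt.{w'} P M' := fun n =>
  subsingleton_of_forall_eq 0 fun x => by
    have := h n
    rw [← Ext.comp_mk₀_id x, ← e.inv_hom_id, ← Ext.mk₀_comp_mk₀, ← Ext.comp_assoc_of_second_deg_zero,
      Subsingleton.elim (x.comp (Ext.mk₀ e.inv) (add_zero _)) 0, Ext.zero_comp]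

omit [HasDerivedCategory.{w} A] in
lemma NoExt.of_isZero {P M : A} (h : IsZero M) : NoExt.{w'} P M := fun n =>
  subsingleton_of_forall_eq 0 fun x => by
    rw [← Ext.comp_mk₀_id x, h.eq_of_src (𝟙 M) 0, Ext.mk₀_zero, Ext.comp_zero]

lemma hom_single_eq_zero {P M : A} (h : NoExt.{w'} P M) {q j : ℤ} (hjq : j < q)
    (f : (singleFunctor A q).obj P ⟶ (singleFunctor A j).obj M) : f = 0 := by
  obtain ⟨n, hn⟩ : ∃ n : ℕ, q = j + ((n + 1 : ℕ) : ℤ) := ⟨(q - j - 1).toNat, by omega⟩
  let e₁ : ((singleFunctor A q).obj P)⟦q⟧ ≅ (singleFunctor A 0).obj P :=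
    ((singleFunctors A).shiftIso q 0 q (add_zero q)).app P
  let e₂ : ((singleFunctor A j).obj M)⟦q⟧ ≅ ((singleFunctor A 0).obj M)⟦((n + 1 : ℕ) : ℤ)⟧ :=
    ((singleFunctors A).shiftIso q (j - q) j (by omega)).app M ≪≫
      (((singleFunctors A).shiftIso ((n + 1 : ℕ) : ℤ) (j - q) 0 (by omega)).app M).symm
  have := h n
  have : Subsingleton (ShiftedHom ((singleFunctor A 0).obj P) ((singleFunctor A 0).obj M) ((n + 1 : ℕ) : ℤ)) :=
    (Ext.homEquiv (X := P) (Y := M) (n := n + 1)).symm.subsingleton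
  apply (shiftFunctor (DerivedCategory A) q).map_injective
  rw [Functor.map_zero, ← cancel_mono e₂.hom, ← cancel_epi e₁.inv]
  exact Subsingleton.elim (α := ShiftedHom _ _ _) _ _

omit [HasExt.{w'} A] in
lemma hom_single_eq_zero_of_isGE {P : A} {q : ℤ} {K : DerivedCategory A} (b : ℤ) (hb : q < b) [K.IsGE b]
    (f : (singleFunctor A q).obj P ⟶ K) : f = 0 :=
  TStructure.t.zero f q b hb

omit [HasExt.{w'} A] in
lemma bijective_hMap_of_iso_single (P : A) (q : ℤ) {K : DerivedCategory A} (M : A)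
    (e : K ≅ (singleFunctor A q).obj M) : Function.Bijective (hMap P q K) := by
  have key : ∀ r : P ⟶ M, hMap P q K ((singleFunctor A q).map r ≫ e.inv) =
      r ≫ hMap M q K e.inv := fun r => hMap_precomp r e.inv
  have hiso : IsIso (hMap M q K e.inv) :=
    inferInstanceAs (IsIso ((singleFunctorCompHomologyFunctorIso A q).inv.app M ≫ (homologyFunctor A q).map e.inv))
  refine ⟨fun f g h => ?_, fun g => ⟨(singleFunctor A q).map (g ≫ inv (hMap M q K e.inv)) ≫ e.inv, ?_⟩⟩
  · obtain ⟨r, hr⟩ := (singleFunctor A q).map_surjective (f ≫ e.hom)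
    obtain ⟨s, hs⟩ := (singleFunctor A q).map_surjective (g ≫ e.hom)
    have hf : f = (singleFunctor A q).map r ≫ e.inv := by simp [hr]
    have hg : g = (singleFunctor A q).map s ≫ e.inv := by simp [hs]
    rw [hf, hg, key, key, cancel_mono] at h
    rw [hf, hg, h]
  · rw [key]
    simp

/-- `Hom(P[-q], K) = Hom(P, H^q K)` for `K` bounded below. -/
theorem bijective_hMap_of_isGE (P : A) (q : ℤ) : ∀ (d : ℕ) (a : ℤ) (K : DerivedCategory A) [K.IsGE a],
    q < a + d → (∀ i, NoExt.{w'} P ((homologyFunctor A i).obj K)) → Function.Bijective (hMap P q K)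
  | 0, a, K, _, ha, _ => by
    refine ⟨fun f g _ => ?_, fun g => ⟨0, ?_⟩⟩
    · rw [hom_single_eq_zero_of_isGE a (by omega) f, hom_single_eq_zero_of_isGE a (by omega) g]
    · exact ((K.isZero_of_isGE a q (by omega)).eq_of_tgt _ _)
  | d + 1, a, K, _, ha, hP => by
    by_cases hqa : q < a
    · exact bijective_hMap_of_isGE P q 0 a K (by omega) hP
    let T := (TStructure.t.triangleLEGE a (a + 1) rfl).obj K
    have hT : T ∈ distTriang _ := TStructure.t.triangleLEGE_distinguished a (a + 1) rfl K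
    haveI h1ge : DerivedCategory.IsGE T.obj₁ a := inferInstanceAs (TStructure.t.IsGE ((TStructure.t.truncLE a).obj K) a)
    haveI h1le : DerivedCategory.IsLE T.obj₁ a := inferInstanceAs (TStructure.t.IsLE ((TStructure.t.truncLE a).obj K) a)
    haveI h3ge : DerivedCategory.IsGE T.obj₃ (a + 1) :=
      inferInstanceAs (TStructure.t.IsGE ((TStructure.t.truncGE (a + 1)).obj K) (a + 1))
    obtain ⟨M, ⟨e⟩⟩ := exists_iso_singleFunctor_obj_of_isGE_of_isLE T.obj₁ a
    have z1 : ∀ i, i ≠ a → IsZero ((homologyFunctor A i).obj T.obj₁) := fun i hi => by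
      rcases lt_or_gt_of_ne hi with h | h
      · exact T.obj₁.isZero_of_isGE a i h
      · exact T.obj₁.isZero_of_isLE a i h
    have hM : NoExt.{w'} P M := by
      haveI : Mono ((homologyFunctor A a).map T.mor₁) :=
        (HomologySequence.mono_homologyMap_mor₁_iff T hT (a - 1) a (by omega)).2
          ((T.obj₃.isZero_of_isGE (a + 1) (a - 1) (by omega)).eq_of_src _ _)
      haveI : Epi ((homologyFunctor A a).map T.mor₁) :=
        (HomologySequence.epi_homologyMap_mor₁_iff T hT a).2
          ((T.obj₃.isZero_of_isGE (a + 1) a (by omega)).eq_of_tgt _ _)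
      haveI := isIso_of_mono_of_epi ((homologyFunctor A a).map T.mor₁)
      exact (hP a).of_iso ((@asIso _ _ _ _ ((homologyFunctor A a).map T.mor₁) this).symm ≪≫
        (homologyFunctor A a).mapIso e ≪≫ (singleFunctorCompHomologyFunctorIso A a).app M)
    have h2 : ∀ i, a < i → IsIso ((homologyFunctor A i).map T.mor₂) := fun i hi => by
      haveI : Mono ((homologyFunctor A i).map T.mor₂) :=
        (HomologySequence.mono_homologyMap_mor₂_iff T hT i).2 ((z1 i (by omega)).eq_of_src _ _)
      haveI : Epi ((homologyFunctor A i).map T.mor₂) :=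
        (HomologySequence.epi_homologyMap_mor₂_iff T hT i (i + 1) rfl).2 ((z1 (i + 1) (by omega)).eq_of_tgt _ _)
      exact isIso_of_mono_of_epi _
    by_cases hq : q = a
    · subst hq
      haveI : Mono ((homologyFunctor A q).map T.mor₁) :=
        (HomologySequence.mono_homologyMap_mor₁_iff T hT (q - 1) q (by omega)).2
          ((T.obj₃.isZero_of_isGE (q + 1) (q - 1) (by omega)).eq_of_src _ _)
      haveI : Epi ((homologyFunctor A q).map T.mor₁) :=
        (HomologySequence.epi_homologyMap_mor₁_iff T hT q).2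
          ((T.obj₃.isZero_of_isGE (q + 1) q (by omega)).eq_of_tgt _ _)
      haveI := isIso_of_mono_of_epi ((homologyFunctor A q).map T.mor₁)
      have hb := bijective_hMap_of_iso_single P q M e
      refine ⟨(injective_iff_map_eq_zero _).2 fun f hf => ?_, fun g => ?_⟩
      · obtain ⟨g, rfl⟩ := Triangle.coyoneda_exact₂ T hT f (hom_single_eq_zero_of_isGE (q + 1) (by omega) _)
        erw [hMap_comp] at hf
        have : hMap P q T.obj₁ g = 0 := (cancel_mono ((homologyFunctor A q).map T.mor₁)).1 (hf.trans zero_comp.symm)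
        rw [hb.1 (this.trans (map_zero _).symm), zero_comp]
      · obtain ⟨f, hf⟩ := hb.2 (g ≫ inv ((homologyFunctor A q).map T.mor₁))
        refine ⟨f ≫ T.mor₁, (hMap_comp f T.mor₁).trans ?_⟩
        rw [hf, Category.assoc, IsIso.inv_hom_id]
        exact Category.comp_id g
    have hP3 : ∀ i, NoExt.{w'} P ((homologyFunctor A i).obj T.obj₃) := fun i => by
      by_cases hi : a < i
      · haveI := h2 i hi
        exact (hP i).of_iso (asIso ((homologyFunctor A i).map T.mor₂))
      · exact NoExt.of_isZero (T.obj₃.isZero_of_isGE (a + 1) i (by omega))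
    have hb := bijective_hMap_of_isGE P q d (a + 1) T.obj₃ (by omega) hP3
    haveI := h2 q (by omega)
    refine ⟨(injective_iff_map_eq_zero _).2 fun f hf => ?_, fun g => ?_⟩
    · have h0 : f ≫ T.mor₂ = 0 := by
        apply hb.1
        erw [hMap_comp, hf, zero_comp, map_zero]
      obtain ⟨g, rfl⟩ := Triangle.coyoneda_exact₂ T hT f h0
      rw [show g = 0 from (cancel_mono e.hom).1 ((hom_single_eq_zero hM (by omega) (g ≫ e.hom)).trans zero_comp.symm),
        zero_comp]
    · obtain ⟨f, hf⟩ := hb.2 (g ≫ (homologyFunctor A q).map T.mor₂)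
      let e' : T.obj₁⟦(1 : ℤ)⟧ ≅ (singleFunctor A (a - 1)).obj M :=
        (shiftFunctor (DerivedCategory A) (1 : ℤ)).mapIso e ≪≫
          ((singleFunctors A).shiftIso 1 (a - 1) a (by omega)).app M
      have h0 : f ≫ T.mor₃ = 0 := by
        rw [← cancel_mono e'.hom, zero_comp]
        exact hom_single_eq_zero hM (by omega) _
      obtain ⟨k, rfl⟩ := Triangle.coyoneda_exact₃ T hT f h0
      refine ⟨k, (cancel_mono ((homologyFunctor A q).map T.mor₂)).1 ?_⟩
      exact (hMap_comp k T.mor₂).symm.trans hf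

end Groth.AlgSpRlim

namespace Groth.AlgSpRlim

variable {A : Type u} [Category.{v} A] [Abelian A] [HasDerivedCategory.{w} A] [HasExt.{w'} A]

open DerivedCategory

/-- No morphisms from positively shifted `P` gives vanishing of higher extensions. -/
lemma noExt_of_hom_eq_zero {P M : A}
    (h : ∀ (n : ℕ) (f : (singleFunctor A ((n + 1 : ℕ) : ℤ)).obj P ⟶ (singleFunctor A 0).obj M), f = 0) :
    NoExt.{w'} P M := fun n => by
  let e : ((singleFunctor A ((n + 1 : ℕ) : ℤ)).obj P)⟦((n + 1 : ℕ) : ℤ)⟧ ≅ (singleFunctor A 0).obj P :=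
    ((singleFunctors A).shiftIso ((n + 1 : ℕ) : ℤ) 0 ((n + 1 : ℕ) : ℤ) (add_zero _)).app P
  have hz : ∀ f : ShiftedHom ((singleFunctor A 0).obj P) ((singleFunctor A 0).obj M) ((n + 1 : ℕ) : ℤ), f = 0 := fun f => by
    obtain ⟨g, hg⟩ := (shiftFunctor (DerivedCategory A) ((n + 1 : ℕ) : ℤ)).map_surjective (e.hom ≫ f)
    rw [← cancel_epi e.hom, ← hg, h n g, Functor.map_zero, comp_zero]
  have : Subsingleton (ShiftedHom ((singleFunctor A 0).obj P) ((singleFunctor A 0).obj M) ((n + 1 : ℕ) : ℤ)) :=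
    subsingleton_of_forall_eq 0 hz
  exact (Ext.homEquiv (X := P) (Y := M) (n := n + 1)).subsingleton

/-- Vanishing of higher extensions gives no morphisms into positive shifts. -/
lemma subsingleton_hom_shift {P M : A} (h : NoExt.{w'} P M) (p : ℤ) (hp : 0 < p) :
    Subsingleton ((singleFunctor A 0).obj P ⟶ ((singleFunctor A 0).obj M)⟦p⟧) := by
  obtain ⟨n, rfl⟩ : ∃ n : ℕ, p = ((n + 1 : ℕ) : ℤ) := ⟨(p - 1).toNat, by omega⟩
  have := h n
  exact (Ext.homEquiv (X := P) (Y := M) (n := n + 1)).symm.subsingleton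

end Groth.AlgSpRlim
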