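import Groth.Agent.AlgSpRlim.Groth
import Groth.Agent.ModEtQCoh.Vanish.Cohom
import Groth.Agent.ModEtQCoh.EpiLocSurj
import Mathlib.Algebra.Homology.DerivedCategory.Ext.ExactSequences

/-!
# Acyclic modules on the small etale site and vanishing of `Ext` out of the free module on an affine
-/

set_option autoImplicit false
set_option backward.isDefEq.respectTransparency.types false
set_option linter.style.haveILetI false
universe u

open CategoryTheory CategoryTheory.Limits AlgebraicGeometry Opposite AlgSp Groth.ModEtQCoh Groth.EtVan Abelian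

noncomputable section

namespace Groth.AlgSpRlim

variable {S : Scheme.{u}} {X : Sp S}

instance : IsGrothendieckAbelian.{u + 1} (ModEt X) := grothendieckAbelian_sheafOfModules (OEtRing X)

instance : EnoughInjectives (ModEt X) := enoughInjectives_sheafOfModules (OEtRing X)

section Cosky

variable {R : (EtOver X)ᵒᵖ ⥤ RingCat.{u + 1}} (P : PresheafOfModules.{u + 1} R)

instance coskyModule (W : (EtOver X)ᵒᵖ) : Module (R.obj W) ((coskyF P.presheaf).obj W) :=
  @Pi.module (EtOver X) (fun T => (T ⟶ W.unop) → P.obj (op T)) (R.obj W) _ _ fun T =>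
    @Pi.module (T ⟶ W.unop) (fun _ => P.obj (op T)) (R.obj W) _ _ fun g => Module.compHom _ (R.map g.op).hom

lemma cosky_smul_apply {W : (EtOver X)ᵒᵖ} (r : R.obj W) (w : (coskyF P.presheaf).obj W) (T : EtOver X)
    (g : T ⟶ W.unop) :
    ((r • w : (coskyF P.presheaf).obj W) : ∀ T : EtOver X, (T ⟶ W.unop) → P.obj (op T)) T g =
      R.map g.op r • (w : ∀ T : EtOver X, (T ⟶ W.unop) → P.obj (op T)) T g := rfl

/-- All functions on maps into an object, as a presheaf of modules. -/
def coskyM : PresheafOfModules.{u + 1} R :=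
  PresheafOfModules.ofPresheaf (coskyF P.presheaf) fun {W W'} f r m => by
    funext T g
    let n : P.obj (op T) := (m : ∀ T : EtOver X, (T ⟶ W.unop) → P.obj (op T)) T (g ≫ f.unop)
    exact congrArg (fun c : R.obj (op T) => c • n) (ConcreteCategory.congr_hom (R.map_comp f g.op) r)

/-- A presheaf of modules embeds into `coskyM`. -/
def toCoskyM : P ⟶ coskyM P :=
  PresheafOfModules.homMk (toCosky P.presheaf) fun W r m => by
    funext T g
    exact P.map_smul g.op r m

instance : Mono (toCoskyM P) :=
  (PresheafOfModules.toPresheaf R).mono_of_mono_map (inferInstanceAs (Mono (toCosky P.presheaf)))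

end Cosky

/-- Cech acyclicity of the underlying abelian sheaf. -/
abbrev Acyclic (M : ModEt X) : Prop := CechAcyclic ((toAbEt X).obj M).obj

theorem acyclic_of_injective (I : ModEt X) [Injective I] : Acyclic I := by
  haveI : Injective ((toPre (OEtRing X)).obj I) := Injective.injective_of_adjoint (shAdj (OEtRing X)) I
  let r : coskyM ((toPre (OEtRing X)).obj I) ⟶ (toPre (OEtRing X)).obj I :=
    Injective.factorThru (𝟙 _) (toCoskyM _)
  have h : toCoskyM _ ≫ r = 𝟙 _ := Injective.comp_factorThru _ _
  intro E _ m Z _ a _ n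
  refine isExact_retract (toCosky ((toPre (OEtRing X)).obj I).presheaf)
    ((PresheafOfModules.toPresheaf _).map r) ?_ (isExact_cosky _ n)
  exact ((PresheafOfModules.toPresheaf _).map_comp (toCoskyM _) r).symm.trans
    ((congrArg _ h).trans ((PresheafOfModules.toPresheaf _).map_id _))

theorem shortExact_toAbEt {C : ShortComplex (ModEt X)} (hC : C.ShortExact) : (C.map (toAbEt X)).ShortExact := by
  haveI : PreservesFiniteColimits (toAbEt X) := preservesFiniteColimits_toSheaf (OEtRing X)
  exact hC.map_of_exact (toAbEt X)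

theorem surjective_of_shortExact {C : ShortComplex (ModEt X)} (hC : C.ShortExact) (h₁ : Acyclic C.X₁)
    (E : EtOver X) [IsAffine E.obj.left.left] : Function.Surjective (appM C.g E) :=
  EtVan.sections_surjective (shortExact_toAbEt hC) h₁ E

theorem acyclic_of_shortExact {C : ShortComplex (ModEt X)} (hC : C.ShortExact) (h₁ : Acyclic C.X₁)
    (h₂ : Acyclic C.X₂) : Acyclic C.X₃ :=
  cechAcyclic_of_shortExact (shortExact_toAbEt hC) h₁ h₂

/-- The free module on an object of the site. -/
def pE (E : EtOver X) : ModEt X :=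
  (PresheafOfModules.sheafification (𝟙 (OEtRing X).obj)).obj (preFree (OEtRing X).obj E)

/-- The generator. -/
def gen (E : EtOver X) : sectModEt (pE E) E :=
  preFreeEquiv E _ ((shAdj (OEtRing X)).unit.app (preFree (OEtRing X).obj E))

/-- Evaluation at the generator. -/
def evGen (E : EtOver X) (M : ModEt X) : (pE E ⟶ M) →+ sectModEt M E :=
  AddMonoidHom.mk' (fun f => appM f E (gen E)) fun _ _ => rfl

lemma evGen_comp {E : EtOver X} {M N : ModEt X} (f : pE E ⟶ M) (g : M ⟶ N) :
    evGen E N (f ≫ g) = appM g E (evGen E M f) := rfl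

lemma bijective_evGen (E : EtOver X) (M : ModEt X) : Function.Bijective (evGen E M) := by
  have h : ⇑(evGen E M) = preFreeEquiv E _ ∘ (shAdj (OEtRing X)).homEquiv _ M := by
    funext f
    show _ = preFreeEquiv E _ ((shAdj (OEtRing X)).homEquiv _ M f)
    rw [Adjunction.homEquiv_unit, preFreeEquiv_comp]
    rfl
  rw [h]
  exact (preFreeEquiv E _).bijective.comp ((shAdj (OEtRing X)).homEquiv _ M).bijective

/-- Maps out of the free module are sections. -/
def pHom (E : EtOver X) (M : ModEt X) : (pE E ⟶ M) ≃+ sectModEt M E :=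
  AddEquiv.ofBijective (evGen E M) (bijective_evGen E M)

lemma pHom_comp {E : EtOver X} {M N : ModEt X} (f : pE E ⟶ M) (g : M ⟶ N) :
    pHom E N (f ≫ g) = appM g E (pHom E M f) := rfl

/-- `Ext` out of the free module on an affine object vanishes on acyclic modules. -/
theorem subsingleton_ext_pE : ∀ (n : ℕ) (M : ModEt X), Acyclic M → ∀ (E : EtOver X) [IsAffine E.obj.left.left],
    Subsingleton (Ext.{u + 1} (pE E) M (n + 1)) := by
  intro n
  induction n with
  | zero =>
    intro M hM E _
    let C := ShortComplex.mk (Injective.ι M) (cokernel.π (Injective.ι M)) (cokernel.condition _)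
    have hC : C.ShortExact :=
      { exact := ShortComplex.exact_of_g_is_cokernel _ (cokernelIsCokernel (Injective.ι M)) }
    refine subsingleton_of_forall_eq 0 fun x => ?_
    obtain ⟨y, rfl⟩ := Ext.covariant_sequence_exact₁ _ hC x (Ext.eq_zero_of_injective _) (zero_add 1)
    obtain ⟨φ, rfl⟩ := Ext.addEquiv₀.symm.surjective y
    obtain ⟨t, ht⟩ := surjective_of_shortExact hC hM E (pHom E _ φ)
    have hψ : (pHom E _).symm t ≫ C.g = φ :=
      (pHom E _).injective (by rw [pHom_comp, AddEquiv.apply_symm_apply, ht])
    rw [← hψ]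
    simp [Ext.addEquiv₀, Ext.homEquiv₀, ← Ext.mk₀_comp_mk₀]
  | succ n ih =>
    intro M hM E _
    let C := ShortComplex.mk (Injective.ι M) (cokernel.π (Injective.ι M)) (cokernel.condition _)
    have hC : C.ShortExact :=
      { exact := ShortComplex.exact_of_g_is_cokernel _ (cokernelIsCokernel (Injective.ι M)) }
    have := ih _ (acyclic_of_shortExact hC hM (acyclic_of_injective _)) E
    refine subsingleton_of_forall_eq 0 fun x => ?_
    obtain ⟨y, rfl⟩ := Ext.covariant_sequence_exact₁ _ hC x (Ext.eq_zero_of_injective _) rfl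
    rw [Subsingleton.elim y 0, Ext.zero_comp]

theorem acyclic_of_isQuasicoherent (M : ModEt X) [M.IsQuasicoherent] : Acyclic M := cechAcyclic_toAbEt M

lemma pHom_apply {E : EtOver X} {M : ModEt X} (f : pE E ⟶ M) : pHom E M f = appM f E (gen E) := rfl

attribute [irreducible] pE pHom gen

end Groth.AlgSpRlim

end
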