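import Mathlib.Algebra.Category.ModuleCat.Presheaf.Generator
import Mathlib.Algebra.Category.ModuleCat.Sheaf.Abelian
import Mathlib.Algebra.Category.ModuleCat.Sheaf.Colimits
import Mathlib.Algebra.Category.ModuleCat.Sheaf.Limits
import Mathlib.CategoryTheory.Abelian.GrothendieckAxioms.FunctorCategory
import Mathlib.CategoryTheory.Abelian.GrothendieckCategory.EnoughInjectives
import Mathlib.CategoryTheory.Abelian.GrothendieckCategory.HasExt
import Mathlib.CategoryTheory.Abelian.Injective.Resolution
import Mathlib.Algebra.Category.Grp.AB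
import Mathlib.Algebra.Category.Grp.FilteredColimits
import Mathlib.Algebra.Category.ModuleCat.Presheaf.Sheafification

/-!
# Sheaves of modules on a site with a large set of objects and small hom-sets
-/

set_option autoImplicit false

universe u

open CategoryTheory Limits Opposite

namespace Groth.AlgSpRlim

variable {C : Type (u + 1)} [Category.{u} C]

/-- The free presheaf of modules on a representable presheaf. -/
noncomputable abbrev preFree (R : Cᵒᵖ ⥤ RingCat.{u + 1}) (W : C) : PresheafOfModules.{u + 1} R :=
  (PresheafOfModules.free R).obj (uliftYoneda.{u + 1}.obj W)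

/-- Maps out of `preFree R W` are sections over `W`. -/
noncomputable def preFreeEquiv {R : Cᵒᵖ ⥤ RingCat.{u + 1}} (W : C) (M : PresheafOfModules.{u + 1} R) :
    (preFree R W ⟶ M) ≃ M.obj (op W) :=
  PresheafOfModules.freeHomEquiv.trans uliftYonedaEquiv

lemma preFreeEquiv_comp {R : Cᵒᵖ ⥤ RingCat.{u + 1}} (W : C) {M N : PresheafOfModules.{u + 1} R}
    (f : preFree R W ⟶ M) (g : M ⟶ N) :
    preFreeEquiv W N (f ≫ g) = g.app (op W) (preFreeEquiv W M f) := rfl

lemma isSeparator_presheaf (R : Cᵒᵖ ⥤ RingCat.{u + 1}) : IsSeparator (∐ fun W : C => preFree R W) := by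
  refine ObjectProperty.IsSeparating.isSeparator_coproduct (f := fun W : C => preFree R W) ?_
  intro M N f g h
  ext ⟨W⟩ m
  obtain ⟨φ, rfl⟩ := (preFreeEquiv W M).surjective m
  refine (preFreeEquiv_comp W φ f).symm.trans ?_
  rw [h (preFree R W) (ObjectProperty.ofObj_apply _ W) φ]
  exact preFreeEquiv_comp W φ g

instance ab5_presheafOfModules (R : Cᵒᵖ ⥤ RingCat.{u + 1}) :
    AB5OfSize.{u + 1, u + 1} (PresheafOfModules.{u + 1} R) where
  ofShape K _ _ := HasExactColimitsOfShape.domain_of_functor K (PresheafOfModules.toPresheaf R)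

variable {J : GrothendieckTopology C} [HasWeakSheafify J AddCommGrpCat.{u + 1}]
  [J.WEqualsLocallyBijective AddCommGrpCat.{u + 1}]

section

variable [HasSheafify J AddCommGrpCat.{u + 1}] (R : Sheaf J RingCat.{u + 1})

/-- The sheafification adjunction for modules. -/
noncomputable abbrev shAdj := PresheafOfModules.sheafificationAdjunction.{u + 1} (𝟙 R.obj)

/-- The forgetful functor to presheaves of modules. -/
noncomputable abbrev toPre : SheafOfModules.{u + 1} R ⥤ PresheafOfModules.{u + 1} R.obj :=
  SheafOfModules.forget R ⋙ PresheafOfModules.restrictScalars (𝟙 R.obj)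

instance ab5_sheafOfModules : AB5OfSize.{u + 1, u + 1} (SheafOfModules.{u + 1} R) where
  ofShape K _ _ := (shAdj R).hasExactColimitsOfShape K

instance hasSeparator_sheafOfModules : HasSeparator (SheafOfModules.{u + 1} R) := by
  refine ⟨⟨(PresheafOfModules.sheafification (𝟙 R.obj)).obj (∐ fun W : C => preFree R.obj W),
    (isSeparator_def _).2 fun X Y f g h => ?_⟩⟩
  apply (toPre R).map_injective
  refine (isSeparator_presheaf R.obj).def _ _ fun k => ?_
  apply ((shAdj R).homEquiv _ Y).symm.injective
  rw [Adjunction.homEquiv_naturality_right_symm, Adjunction.homEquiv_naturality_right_symm]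
  exact h _

instance grothendieckAbelian_sheafOfModules :
    IsGrothendieckAbelian.{u + 1} (SheafOfModules.{u + 1} R) where

instance enoughInjectives_sheafOfModules : EnoughInjectives (SheafOfModules.{u + 1} R) := inferInstance

instance hasExt_sheafOfModules : HasExt.{u + 1} (SheafOfModules.{u + 1} R) := inferInstance

end

end Groth.AlgSpRlim
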