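import Mathlib.Algebra.Homology.DerivedCategory.FullyFaithful
import Mathlib.Algebra.Homology.DerivedCategory.TStructure
import Mathlib.Algebra.Homology.DerivedCategory.HomologySequence
import Mathlib.Algebra.Homology.SingleHomology

/-!
# The map from morphisms out of a shifted object to morphisms into a cohomology object
-/

set_option autoImplicit false
set_option backward.isDefEq.respectTransparency false

universe w v u

open CategoryTheory CategoryTheory.Limits

namespace Groth.AlgSpRlim

variable {A : Type u} [Category.{v} A] [Abelian A] [HasDerivedCategory.{w} A]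

open DerivedCategory

/-- `Hom(P[-q], K) → Hom(P, H^q K)`. -/
noncomputable def hMap (P : A) (q : ℤ) (K : DerivedCategory A) :
    ((singleFunctor A q).obj P ⟶ K) →+ (P ⟶ (homologyFunctor A q).obj K) :=
  AddMonoidHom.mk'
    (fun f => (singleFunctorCompHomologyFunctorIso A q).inv.app P ≫ (homologyFunctor A q).map f)
    fun a b => by rw [Functor.map_add, Preadditive.comp_add]

lemma hMap_comp {P : A} {q : ℤ} {K K' : DerivedCategory A} (f : (singleFunctor A q).obj P ⟶ K) (g : K ⟶ K') :
    hMap P q K' (f ≫ g) = hMap P q K f ≫ (homologyFunctor A q).map g := by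
  show _ ≫ (homologyFunctor A q).map (f ≫ g) = (_ ≫ _) ≫ _
  rw [Functor.map_comp, Category.assoc]

lemma hMap_precomp {P P' : A} {q : ℤ} {K : DerivedCategory A} (r : P' ⟶ P)
    (f : (singleFunctor A q).obj P ⟶ K) :
    hMap P' q K ((singleFunctor A q).map r ≫ f) = r ≫ hMap P q K f := by
  show _ ≫ (homologyFunctor A q).map (_ ≫ f) = r ≫ _ ≫ _
  rw [Functor.map_comp, ← Category.assoc, ← Category.assoc r]
  congr 1
  exact ((singleFunctorCompHomologyFunctorIso A q).inv.naturality r).symm

/-- A map into the cycles of a complex gives a map out of a shifted object. -/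
lemma exists_hMap_Q_eq (P : A) (q : ℤ) (K : CochainComplex A ℤ) (z : P ⟶ K.cycles q) :
    ∃ f, hMap P q (Q.obj K) f = z ≫ K.homologyπ q ≫ (homologyFunctorFactors A q).inv.app K := by
  let S := (HomologicalComplex.single A (ComplexShape.up ℤ) q).obj P
  let e : (singleFunctor A q).obj P ≅ Q.obj S := (singleFunctorIsoCompQ A q).app P
  let θ : P ≅ P := ((singleFunctorCompHomologyFunctorIso A q).app P).symm ≪≫
    (homologyFunctor A q).mapIso e ≪≫ (homologyFunctorFactors A q).app S ≪≫
    HomologicalComplex.singleObjHomologySelfIso (ComplexShape.up ℤ) q P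
  let φ := θ.inv ≫ z ≫ K.iCycles q
  let g : S ⟶ K := HomologicalComplex.mkHomFromSingle φ fun k _ => by
    show (θ.inv ≫ z ≫ K.iCycles q) ≫ K.d q k = 0
    rw [Category.assoc, Category.assoc, HomologicalComplex.iCycles_d, comp_zero, comp_zero]
  refine ⟨e.hom ≫ Q.map g, ?_⟩
  have hc : (HomologicalComplex.singleObjCyclesSelfIso (ComplexShape.up ℤ) q P).inv ≫
      HomologicalComplex.cyclesMap g q = θ.inv ≫ z := by
    rw [← cancel_mono (K.iCycles q), Category.assoc, HomologicalComplex.cyclesMap_i,
      ← Category.assoc, HomologicalComplex.singleObjCyclesSelfIso_inv_iCycles,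
      HomologicalComplex.mkHomFromSingle_f]
    simp [φ]
  have hg : (HomologicalComplex.singleObjHomologySelfIso (ComplexShape.up ℤ) q P).inv ≫
      HomologicalComplex.homologyMap g q = θ.inv ≫ z ≫ K.homologyπ q := by
    rw [← HomologicalComplex.singleObjCyclesSelfIso_inv_homologyπ, Category.assoc,
      HomologicalComplex.homologyπ_naturality, ← Category.assoc, hc, Category.assoc]
  have hn : (homologyFunctor A q).map (Q.map g) ≫ (homologyFunctorFactors A q).hom.app K =
      (homologyFunctorFactors A q).hom.app S ≫ HomologicalComplex.homologyMap g q :=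
    (homologyFunctorFactors A q).hom.naturality g
  have h1 : hMap P q (Q.obj K) (e.hom ≫ Q.map g) ≫ (homologyFunctorFactors A q).hom.app K =
      z ≫ K.homologyπ q := by
    rw [← cancel_epi θ.inv, ← hg]
    show θ.inv ≫ (_ ≫ (homologyFunctor A q).map (e.hom ≫ Q.map g)) ≫ _ = _
    rw [Functor.map_comp, Category.assoc, Category.assoc, hn]
    simp [θ]
  refine Eq.trans ?_ (((Category.assoc _ _ _).symm.trans (congrArg (· ≫ (homologyFunctorFactors A q).inv.app K) h1)).trans (Category.assoc _ _ _))
  exact ((congrArg (hMap P q (Q.obj K) (e.hom ≫ Q.map g) ≫ ·)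
    (Iso.hom_inv_id_app (homologyFunctorFactors A q) K)).trans (Category.comp_id _)).symm

/-- Cohomology objects are quotients of objects all maps into which lift. -/
lemma exists_epi_liftable (q : ℤ) (K : DerivedCategory A) :
    ∃ (Z : A) (π : Z ⟶ (homologyFunctor A q).obj K), Epi π ∧
      ∀ (P : A) (z : P ⟶ Z), ∃ f, hMap P q K f = z ≫ π := by
  let K' := Q.objPreimage K
  let e : Q.obj K' ≅ K := Q.objObjPreimageIso K
  refine ⟨K'.cycles q, (K'.homologyπ q ≫ (homologyFunctorFactors A q).inv.app K') ≫
    (homologyFunctor A q).map e.hom, epi_comp' (epi_comp' inferInstance inferInstance) inferInstance,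
    fun P z => ?_⟩
  obtain ⟨f, hf⟩ := exists_hMap_Q_eq P q K' z
  refine ⟨f ≫ e.hom, ?_⟩
  rw [hMap_comp, hf]
  exact Category.assoc _ _ _

end Groth.AlgSpRlim
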