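import Groth.Agent.AlgSpRlim.Trunc
import Groth.Agent.DerivedCoh.KInj.Products

/-!
# Complexes with quasi-coherent cohomology on affine objects, and derived limits
-/

set_option autoImplicit false
set_option backward.isDefEq.respectTransparency false
set_option linter.style.haveILetI false
set_option maxHeartbeats 1000000
universe u

open CategoryTheory CategoryTheory.Limits AlgebraicGeometry Opposite AlgSp Groth.ModEtQCoh Pretriangulated DerivedCategory

attribute [local instance] HasDerivedCategory.standard

noncomputable section

namespace Groth.AlgSpRlim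

variable {S : Scheme.{u}} {X : Sp S}

lemma hasCountableProducts : HasProductsOfShape ℕ (DModEt X) :=
  haveI := Groth.DerivedCoh.KInjRes.hasProducts (A := ModEt X)
  hasLimitsOfShape_of_equivalence (Discrete.equivalence (Equiv.ulift.{u + 1} : ULift.{u + 1} ℕ ≃ ℕ))

/-- On affine objects a complex with quasi-coherent cohomology is computed by sections. -/
theorem bijective_sel_of_good (K : DModEt X) (hK : ∀ i, Good ((Hq i).obj K)) (q : ℤ) (E : EtOver X)
    (hE : IsAffine E.obj.left.left) : Function.Bijective (sel E q K) := by
  haveI := hasCountableProducts (X := X)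
  obtain ⟨c, hc⟩ := exists_triangle_tau (K₀ := K) hK
  exact bijective_sel_limit _ c hc (towerGood_tau hK) hE

/-- Towers with quasi-coherent cohomology and epimorphic transition maps. -/
theorem towerGood_of_qcoh (K : ℕ → DModEt X) (t : ∀ n, K (n + 1) ⟶ K n)
    (hK : ∀ n, DCoh.IsQCohDMod (OEtRing X) (K n))
    (ht : ∀ (q : ℤ) (n : ℕ), Epi ((Hq q).map (t n))) : TowerGood K t where
  bij n q E hE := bijective_sel_of_good (K n) (fun i => haveI := hK n i; good_of_isQuasicoherent _) q E hE
  surj n q E hE :=
    haveI := hE
    haveI := hK (n + 1) q
    haveI := hK n q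
    haveI := ht q n
    appM_surjective_of_epi _ E

end Groth.AlgSpRlim

end
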