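import Groth.Agent.AlgSpRlim.Main
import Mathlib.CategoryTheory.Functor.OfSequence

/-!
# The limit of a tower of quasi-coherent modules with epimorphic transition maps is its derived limit
-/

set_option autoImplicit false
set_option backward.isDefEq.respectTransparency false
set_option linter.style.haveILetI false
set_option maxHeartbeats 1000000
universe u

open CategoryTheory CategoryTheory.Limits AlgebraicGeometry Opposite AlgSp Groth.ModEtQCoh Pretriangulated DerivedCategory

attribute [local instance] HasDerivedCategory.standard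

noncomputable section

namespace Groth.AlgSpRlim

section Triangulated

variable {T : Type*} [Category T] [Preadditive T] [HasZeroObject T] [HasShift T ℤ]
  [∀ n : ℤ, (shiftFunctor T n).Additive] [Pretriangulated T]

lemma exists_triangle_of_isIso (K : ℕ → T) (t : ∀ n, K (n + 1) ⟶ K n) [HasProduct K] {Y : T} (ψ : ∀ n, Y ⟶ K n)
    (hψ : ∀ n, ψ (n + 1) ≫ t n = ψ n)
    (h : ∀ {L : T} (a : L ⟶ ∏ᶜ K) (c : (∏ᶜ K) ⟶ L⟦(1 : ℤ)⟧),
      Triangle.mk a (Pi.lift fun n : ℕ => Pi.π K n - Pi.π K (n + 1) ≫ t n) c ∈ distTriang _ →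
      ∀ φ : Y ⟶ L, (∀ n, φ ≫ a ≫ Pi.π K n = ψ n) → IsIso φ) :
    ∃ c' : (∏ᶜ K) ⟶ Y⟦(1 : ℤ)⟧,
      Triangle.mk (Pi.lift ψ) (Pi.lift fun n : ℕ => Pi.π K n - Pi.π K (n + 1) ≫ t n) c' ∈ distTriang _ := by
  obtain ⟨L', a', c', hd⟩ := distinguished_cocone_triangle₁ (Pi.lift fun n : ℕ => Pi.π K n - Pi.π K (n + 1) ≫ t n)
  obtain ⟨φ, hφ⟩ := Triangle.coyoneda_exact₂ _ hd (Pi.lift ψ) (Pi.hom_ext _ _ fun n => by
    rw [Triangle.mk_mor₂, Category.assoc, Pi.lift_π, Preadditive.comp_sub, Pi.lift_π, ← Category.assoc,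
      Pi.lift_π, hψ, sub_self, zero_comp])
  haveI := h a' c' hd φ fun n =>
    (Category.assoc _ _ _).symm.trans ((congrArg (· ≫ Pi.π K n) hφ.symm).trans (Pi.lift_π _ _))
  refine ⟨c' ≫ (inv φ)⟦(1 : ℤ)⟧', isomorphic_distinguished _ hd _
    (Triangle.isoMk _ _ (asIso φ) (Iso.refl _) (Iso.refl _) ?_ ?_ ?_)⟩
  · exact (Category.comp_id _).trans hφ
  · exact (Category.comp_id _).trans (Category.id_comp _).symm
  · refine Eq.trans ?_ (Category.id_comp _).symm
    show (c' ≫ (inv φ)⟦(1 : ℤ)⟧') ≫ φ⟦(1 : ℤ)⟧' = c'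
    rw [Category.assoc, ← Functor.map_comp, IsIso.inv_hom_id, CategoryTheory.Functor.map_id, Category.comp_id]

end Triangulated

variable {S : Scheme.{u}} {X : Sp S}

/-- A module in degree zero. -/
abbrev inD0 (M : ModEt X) : DModEt X := (singleFunctor (ModEt X) 0).obj M

/-- The cohomology sheaf in degree zero of a module in degree zero. -/
abbrev η (M : ModEt X) : (Hq 0).obj (inD0 M) ≅ M := (singleFunctorCompHomologyFunctorIso (ModEt X) 0).app M

lemma η_naturality {M N : ModEt X} (f : M ⟶ N) :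
    (Hq 0).map ((singleFunctor (ModEt X) 0).map f) ≫ (η N).hom = (η M).hom ≫ f :=
  (singleFunctorCompHomologyFunctorIso (ModEt X) 0).hom.naturality f

lemma isZero_Hq_inD0 (M : ModEt X) {q : ℤ} (hq : q ≠ 0) : IsZero ((Hq q).obj (inD0 M)) := by
  rcases lt_or_gt_of_ne hq with h | h
  · exact (inD0 M).isZero_of_isGE 0 q h
  · exact (inD0 M).isZero_of_isLE 0 q h

variable {M : ℕ → ModEt X} (t : ∀ n, M (n + 1) ⟶ M n)

theorem towerGood_single (hM : ∀ n, (M n).IsQuasicoherent) (ht : ∀ n, Epi (t n)) :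
    TowerGood (fun n => inD0 (M n)) (fun n => (singleFunctor (ModEt X) 0).map (t n)) where
  bij n q E hE := bijective_sel_of_isGE 0 (fun i => by
    by_cases hi : i = 0
    · subst hi
      haveI := hM n
      exact (good_of_isQuasicoherent (M n)).of_iso (η (M n)).symm
    · exact Good.of_isZero (isZero_Hq_inD0 (M n) hi)) E hE q
  surj n q E hE := by
    by_cases hq : q = 0
    · subst hq
      haveI := hE
      haveI := hM n
      haveI := hM (n + 1)
      haveI := ht n
      intro y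
      obtain ⟨x, hx⟩ := appM_surjective_of_epi (t n) E (appM (η (M n)).hom E y)
      refine ⟨appM (η (M (n + 1))).inv E x, appM_injective_of_isIso (η (M n)).hom E ?_⟩
      rw [← appM_comp, ← appM_comp, η_naturality, (η (M (n + 1))).inv_hom_id_assoc, hx]
    · haveI := subsingleton_sect_of_isZero (isZero_Hq_inD0 (M n) hq) E
      exact fun y => ⟨0, Subsingleton.elim (α := sectModEt ((Hq q).obj (inD0 (M n))) E) _ _⟩

lemma isZero_of_sections {N : ModEt X} (h : ∀ E (s : sectModEt N E), s = 0) : IsZero N := by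
  rw [IsZero.iff_id_eq_zero]
  ext ⟨E⟩ s
  exact h E s

variable [HasProduct fun n => inD0 (M n)] {L : DModEt X} (a : L ⟶ ∏ᶜ fun n => inD0 (M n))
  (c : (∏ᶜ fun n => inD0 (M n)) ⟶ L⟦(1 : ℤ)⟧)
  (hdist : Triangle.mk a (Pi.lift fun n : ℕ => Pi.π (fun n => inD0 (M n)) n -
    Pi.π (fun n => inD0 (M n)) (n + 1) ≫ (singleFunctor (ModEt X) 0).map (t n)) c ∈ distTriang _)

include hdist

lemma isZero_Hq_limit (hM : ∀ n, (M n).IsQuasicoherent) (ht : ∀ n, Epi (t n)) {q : ℤ} (hq : q ≠ 0) :
    IsZero ((Hq q).obj L) :=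
  isZero_of_sections fun E s => sections_inj a c hdist (towerGood_single t hM ht) q E s fun n =>
    haveI := subsingleton_sect_of_isZero (isZero_Hq_inD0 (M n) hq) E
    Subsingleton.elim (α := sectModEt ((Hq q).obj (inD0 (M n))) E) _ _

lemma pr_comp (n : ℕ) : ((Hq 0).map (a ≫ Pi.π (fun n => inD0 (M n)) (n + 1)) ≫ (η (M (n + 1))).hom) ≫ t n =
    (Hq 0).map (a ≫ Pi.π (fun n => inD0 (M n)) n) ≫ (η (M n)).hom := by
  rw [Category.assoc, ← η_naturality (t n), ← Category.assoc]
  refine congrArg (· ≫ (η (M n)).hom) ?_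
  rw [← comp_t a c hdist n]
  exact ((Hq 0).map_comp _ _).symm

omit hdist a c in
lemma isIso_to_limit_aux {Y : ModEt X} (u : limit (Functor.ofOpSequence t) ⟶ Y) (pr : ∀ n, Y ⟶ M n)
    (hu : ∀ n, u ≫ pr n = limit.π (Functor.ofOpSequence t) (op n)) (hc : ∀ n, pr (n + 1) ≫ t n = pr n)
    (hext : ∀ E (s : sectModEt Y E), (∀ n, appM (pr n) E s = 0) → s = 0) : IsIso u := by
  let v : Y ⟶ limit (Functor.ofOpSequence t) := limit.lift (Functor.ofOpSequence t)
    (Cone.mk Y (NatTrans.ofOpSequence (F := (Functor.const ℕᵒᵖ).obj Y) (G := Functor.ofOpSequence t) pr fun n => by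
      rw [Functor.ofOpSequence_map_homOfLE_succ]
      exact (Category.id_comp _).trans (hc n).symm))
  have hv : ∀ n, v ≫ limit.π (Functor.ofOpSequence t) (op n) = pr n := fun n => limit.lift_π _ _
  haveI : Mono v := mono_of_injective_appM v fun E s hs => hext E s fun n => by
    rw [← hv n, appM_comp, hs, map_zero]
  have h1 : u ≫ v = 𝟙 _ := limit.hom_ext fun k => by
    obtain ⟨n⟩ := k
    rw [Category.assoc, hv, hu, Category.id_comp]
  exact ⟨⟨v, h1, (cancel_mono v).1 (by rw [Category.assoc, h1, Category.comp_id, Category.id_comp])⟩⟩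

theorem isIso_of_comp_single (hM : ∀ n, (M n).IsQuasicoherent) (ht : ∀ n, Epi (t n))
    (φ : inD0 (limit (Functor.ofOpSequence t)) ⟶ L)
    (hφ : ∀ n, φ ≫ a ≫ Pi.π (fun n => inD0 (M n)) n =
      (singleFunctor (ModEt X) 0).map (limit.π (Functor.ofOpSequence t) (op n))) : IsIso φ := by
  rw [DerivedCategory.isIso_iff]
  intro q
  change IsIso ((Hq q).map φ)
  by_cases hq : q = 0
  swap
  · exact ⟨⟨0, (isZero_Hq_inD0 _ hq).eq_of_src _ _, (isZero_Hq_limit t a c hdist hM ht hq).eq_of_src _ _⟩⟩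
  subst hq
  haveI := isIso_to_limit_aux t ((η (limit (Functor.ofOpSequence t))).inv ≫ (Hq 0).map φ)
    (fun n => (Hq 0).map (a ≫ Pi.π (fun n => inD0 (M n)) n) ≫ (η (M n)).hom)
    (fun n => by
      rw [Category.assoc, ← Functor.map_comp_assoc, hφ, η_naturality, Iso.inv_hom_id_assoc])
    (fun n => pr_comp t a c hdist n)
    (fun E s hs => sections_inj a c hdist (towerGood_single t hM ht) 0 E s fun n =>
      appM_injective_of_isIso (η (M n)).hom E ((hs n).trans (map_zero _).symm))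
  exact IsIso.of_isIso_comp_left (η (limit (Functor.ofOpSequence t))).inv ((Hq 0).map φ)

omit hdist a c in
theorem exists_triangle_single (hM : ∀ n, (M n).IsQuasicoherent) (ht : ∀ n, Epi (t n)) :
    ∃ c' : (∏ᶜ fun n => inD0 (M n)) ⟶ (inD0 (limit (Functor.ofOpSequence t)))⟦(1 : ℤ)⟧,
      Triangle.mk (Pi.lift (f := fun n => inD0 (M n)) fun n =>
          (singleFunctor (ModEt X) 0).map (limit.π (Functor.ofOpSequence t) (op n)))
        (Pi.lift fun n : ℕ => Pi.π (fun n => inD0 (M n)) n -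
          Pi.π (fun n => inD0 (M n)) (n + 1) ≫ (singleFunctor (ModEt X) 0).map (t n)) c' ∈ distTriang _ :=
  exists_triangle_of_isIso (fun n => inD0 (M n)) (fun n => (singleFunctor (ModEt X) 0).map (t n)) _
    (fun n => by
      rw [← Functor.map_comp]
      exact congrArg _ ((congrArg (limit.π (Functor.ofOpSequence t) (op (n + 1)) ≫ ·)
        (Functor.ofOpSequence_map_homOfLE_succ t n).symm).trans (limit.w (Functor.ofOpSequence t) _)))
    fun {L} a c hd φ hφ => isIso_of_comp_single t a c hd hM ht φ hφ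

omit hdist a c in
/-- The limit has no higher extensions from free modules on affine objects. -/
theorem good_limit (hM : ∀ n, (M n).IsQuasicoherent) (ht : ∀ n, Epi (t n)) :
    Good (limit (Functor.ofOpSequence t)) := fun E hE => by
  obtain ⟨c', hd⟩ := exists_triangle_single t hM ht
  refine noExt_of_hom_eq_zero fun n f => ?_
  haveI := subsingleton_sect_of_isZero (isZero_Hq_limit t _ c' hd hM ht (q := ((n + 1 : ℕ) : ℤ)) (by omega)) E
  exact (bijective_sel_limit _ c' hd (towerGood_single t hM ht) hE).1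
    (Subsingleton.elim (α := sectModEt ((Hq ((n + 1 : ℕ) : ℤ)).obj (inD0 (limit (Functor.ofOpSequence t)))) E) _ _)

end Groth.AlgSpRlim

end
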