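import Groth.Agent.AlgSpRlim.Free
import Groth.Agent.AlgSpRlim.Bounded
import Groth.Agent.ModEtQCoh.Morphisms
import Groth.Agent.ModEtQCoh.Charts
import Groth.Agent.ModEtQCoh.Exact
import Groth.Prelude.Def_AlgSpD

/-!
# Sections of cohomology sheaves of complexes of modules on the small etale site
-/

set_option autoImplicit false
set_option backward.isDefEq.respectTransparency false
set_option linter.style.haveILetI false
universe u

open CategoryTheory CategoryTheory.Limits AlgebraicGeometry Opposite AlgSp Groth.ModEtQCoh Abelian DerivedCategory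

attribute [local instance] HasDerivedCategory.standard

noncomputable section

namespace Groth.AlgSpRlim

variable {S : Scheme.{u}} {X : Sp S}

instance : HasExt.{u + 1} (ModEt X) := hasExt_sheafOfModules (OEtRing X)

/-- `pE` is covariant in the object. -/
def pMap {E E' : EtOver X} (g : E' ⟶ E) : pE E' ⟶ pE E := (pHom E' (pE E)).symm (resM (pE E) g (gen E))

lemma pHom_pMap_comp {E E' : EtOver X} (g : E' ⟶ E) {M : ModEt X} (f : pE E ⟶ M) :
    pHom E' M (pMap g ≫ f) = resM M g (pHom E M f) := by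
  rw [pHom_comp, pMap, AddEquiv.apply_symm_apply, appM_resM, pHom_apply]

/-- A shifted free module. -/
abbrev gObj (E : EtOver X) (q : ℤ) : DModEt X := (singleFunctor (ModEt X) q).obj (pE E)

/-- A morphism out of a shifted free module gives a section of a cohomology sheaf. -/
def sel (E : EtOver X) (q : ℤ) (K : DModEt X) :
    (gObj E q ⟶ K) →+ sectModEt (DCoh.HDMod (OEtRing X) K q) E :=
  (pHom E _).toAddMonoidHom.comp (hMap (pE E) q K)

lemma sel_comp {E : EtOver X} {q : ℤ} {K K' : DModEt X} (f : gObj E q ⟶ K) (g : K ⟶ K') :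
    sel E q K' (f ≫ g) = appM ((homologyFunctor (ModEt X) q).map g) E (sel E q K f) := by
  show pHom E _ (hMap (pE E) q K' (f ≫ g)) = appM _ E (pHom E _ (hMap (pE E) q K f))
  rw [hMap_comp, pHom_comp]

lemma sel_res {E E' : EtOver X} (g : E' ⟶ E) {q : ℤ} {K : DModEt X} (f : gObj E q ⟶ K) :
    sel E' q K ((singleFunctor (ModEt X) q).map (pMap g) ≫ f) = resM _ g (sel E q K f) := by
  show pHom E' _ (hMap (pE E') q K _) = resM _ g (pHom E _ (hMap (pE E) q K f))
  rw [hMap_precomp, pHom_pMap_comp]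

/-- Vanishing of higher `Ext` from the free modules on affine objects. -/
abbrev Good (M : ModEt X) : Prop :=
  ∀ (E : EtOver X), IsAffine E.obj.left.left → NoExt.{u + 1} (pE E) M

lemma good_of_isQuasicoherent (M : ModEt X) [M.IsQuasicoherent] : Good M := fun E hE n =>
  haveI := hE
  subsingleton_ext_pE n M (acyclic_of_isQuasicoherent M) E

lemma Good.of_iso {M M' : ModEt X} (h : Good M) (e : M ≅ M') : Good M' := fun E hE => (h E hE).of_iso e

lemma Good.of_isZero {M : ModEt X} (h : IsZero M) : Good M := fun _ _ => NoExt.of_isZero h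

lemma subsingleton_sect_of_isZero {M : ModEt X} (h : IsZero M) (E : EtOver X) : Subsingleton (sectModEt M E) :=
  subsingleton_of_forall_eq 0 fun s => by
    obtain ⟨f, rfl⟩ := (pHom E M).surjective s
    rw [h.eq_of_tgt f 0, map_zero]

theorem bijective_sel_of_isGE {K : DModEt X} (a : ℤ) [K.IsGE a]
    (hK : ∀ i, Good (DCoh.HDMod (OEtRing X) K i)) (E : EtOver X) (hE : IsAffine E.obj.left.left) (q : ℤ) :
    Function.Bijective (sel E q K) :=
  (pHom E _).bijective.comp
    (bijective_hMap_of_isGE (pE E) q (q - a + 1).toNat a K (by omega) fun i => hK i E hE)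

/-- Sections of cohomology sheaves lift locally. -/
theorem exists_local_lift (K : DModEt X) (q : ℤ) (E : EtOver X) [IsAffine E.obj.left.left]
    (s : sectModEt (DCoh.HDMod (OEtRing X) K q) E) :
    ∃ (m : ℕ) (Z : Fin m → EtOver X) (a : ∀ k, Z k ⟶ E), (∀ k, IsAffine (Z k).obj.left.left) ∧ JointlySurj a ∧
      ∀ k, ∃ f, sel (Z k) q K f = resM _ (a k) s := by
  obtain ⟨C, π, hπ, hlift⟩ := exists_epi_liftable q K
  obtain ⟨m, Z, a, hZ, hcov, hl⟩ := exists_affine_cover (imageSieve_mem_of_epi π s)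
  refine ⟨m, Z, a, hZ, hcov, fun k => ?_⟩
  obtain ⟨t, ht⟩ := hl k
  obtain ⟨f, hf⟩ := hlift _ ((pHom (Z k) _).symm t)
  refine ⟨f, ?_⟩
  show pHom (Z k) _ (hMap (pE (Z k)) q K f) = _
  rw [hf, pHom_comp, AddEquiv.apply_symm_apply]
  exact ht

lemma exists_affine_cover_all (W : EtOver X) :
    ∃ (ι : Type u) (Z : ι → EtOver X) (a : ∀ i, Z i ⟶ W), (∀ i, IsAffine (Z i).obj.left.left) ∧ JointlySurj a := by
  choose Z h z hZ hx using exists_affine_chart_of_ofPt W
  exact ⟨W.obj.left.left, Z, h, hZ, fun x => ⟨x, z x, hx x⟩⟩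

lemma isIso_of_bijective_appM {M N : ModEt X} (f : M ⟶ N) (h : ∀ E, Function.Bijective (appM f E)) : IsIso f := by
  haveI : Mono f := Preadditive.mono_of_cancel_zero _ fun {P} x hx => by
    ext ⟨E⟩ s
    exact (h E).1 ((congrArg (fun z : P ⟶ N => appM z E s) hx).trans (map_zero (appM f E)).symm)
  haveI : Epi f := epi_of_local f fun E s =>
    ⟨PUnit, fun _ => E, fun _ => 𝟙 E, fun x => ⟨⟨⟩, x, rfl⟩, fun _ => by
      rw [resM_id]; exact (h E).2 s⟩
  exact isIso_of_mono_of_epi f

attribute [irreducible] sel pMap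

end Groth.AlgSpRlim

end
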