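import Groth.Agent.AlgSpRlim.Free
import Groth.Agent.AlgSpRlim.Bounded
import Groth.Agent.ModEtQCoh.Morphisms
import Groth.Prelude.Def_AlgSpD
import Mathlib.Algebra.Category.ModuleCat.EnoughInjectives

/-!
# Restriction to an object preserves injectives; transfer of vanishing to the slice
-/

set_option autoImplicit false
set_option backward.isDefEq.respectTransparency false
set_option linter.style.haveILetI false
set_option maxHeartbeats 1000000
universe w v u

open CategoryTheory CategoryTheory.Limits Opposite

noncomputable section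

namespace Groth.AlgSpRlim

section Coind

variable {C : Type (u + 1)} [Category.{u} C] {R : Cᵒᵖ ⥤ RingCat.{u + 1}}
  (J : ∀ T : C, ModuleCat.{u + 1} (R.obj (op T)))

/-- The underlying presheaf of `coind`. -/
def coindF : Cᵒᵖ ⥤ Ab.{u + 1} where
  obj W := AddCommGrpCat.of (∀ T : C, (T ⟶ W.unop) → J T)
  map {W W'} h := AddCommGrpCat.ofHom
    { toFun := fun w T g => w T (g ≫ h.unop), map_zero' := rfl, map_add' := fun _ _ => rfl }
  map_id W := by
    refine AddCommGrpCat.hom_ext (DFunLike.ext _ _ fun w => ?_)
    funext T g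
    exact congrArg (w T) (Category.comp_id g)
  map_comp {W W' W''} h h' := by
    refine AddCommGrpCat.hom_ext (DFunLike.ext _ _ fun w => ?_)
    funext T g
    exact congrArg (w T) (Category.assoc g h'.unop h.unop).symm

instance coindModule (W : Cᵒᵖ) : Module (R.obj W) ((coindF J).obj W) :=
  @Pi.module C (fun T => (T ⟶ W.unop) → J T) (R.obj W) _ _ fun T =>
    @Pi.module (T ⟶ W.unop) (fun _ => J T) (R.obj W) _ _ fun g => Module.compHom _ (R.map g.op).hom

/-- Families indexed by maps into an object. -/
def coind : PresheafOfModules.{u + 1} R :=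
  PresheafOfModules.ofPresheaf (coindF J) fun {W W'} f r m => by
    funext T g
    let n : J T := (m : ∀ T : C, (T ⟶ W.unop) → J T) T (g ≫ f.unop)
    exact congrArg (fun c : R.obj (op T) => c • n) (ConcreteCategory.congr_hom (R.map_comp f g.op) r)

variable {J}

/-- A presheaf of modules maps into `coind`. -/
def toCoind (P : PresheafOfModules.{u + 1} R) (ι : ∀ T : C, P.obj (op T) ⟶ J T) : P ⟶ coind J :=
  PresheafOfModules.homMk
    { app := fun W => AddCommGrpCat.ofHom
        { toFun := fun x T g => (ι T).hom (P.map g.op x)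
          map_zero' := funext fun T => funext fun g =>
            (congrArg (ι T).hom (map_zero (P.map g.op).hom)).trans (map_zero (ι T).hom)
          map_add' := fun x y => funext fun T => funext fun g =>
            (congrArg (ι T).hom (map_add (P.map g.op).hom x y)).trans (map_add (ι T).hom _ _) }
      naturality := fun W W' h => AddCommGrpCat.hom_ext (DFunLike.ext _ _ fun x => funext fun T => funext fun g =>
        congrArg (ι T).hom (P.map_comp_apply h g.op x).symm) }
    fun W r m => funext fun T => funext fun g =>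
      (congrArg (ι T).hom (P.map_smul g.op r m)).trans ((ι T).hom.map_smul _ _)

lemma toCoind_apply {P : PresheafOfModules.{u + 1} R} (ι : ∀ T : C, P.obj (op T) ⟶ J T) (W : Cᵒᵖ)
    (x : P.obj W) (T : C) (g : T ⟶ W.unop) :
    ((toCoind P ι).app W x : ∀ T : C, (T ⟶ W.unop) → J T) T g = (ι T).hom (P.map g.op x) := rfl

lemma mono_toCoind (P : PresheafOfModules.{u + 1} R) (ι : ∀ T : C, P.obj (op T) ⟶ J T) [∀ T, Mono (ι T)] :
    Mono (toCoind P ι) :=
  PresheafOfModules.mono_of_injective fun {W} x y h => by
    have h' := congrFun (congrFun h W.unop) (𝟙 _)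
    rw [toCoind_apply, toCoind_apply] at h'
    have h'' := (ModuleCat.mono_iff_injective (ι W.unop)).1 inferInstance h'
    rwa [show (𝟙 W.unop).op = 𝟙 W from rfl, PresheafOfModules.map_id] at h''

end Coind

section Restrict

variable {C : Type (u + 1)} [Category.{u} C] {Jt : GrothendieckTopology C} (R : Sheaf Jt RingCat.{u + 1})
  (E : C)

omit Jt in
lemma overTarget_congr {P : Cᵒᵖ ⥤ RingCat.{u + 1}} {G : PresheafOfModules.{u + 1} ((Over.forget E).op ⋙ P)}
    {T : C} {M : Type (u + 1)} (ψ : ∀ a : T ⟶ E, G.obj (op (Over.mk a)) → M) {V : Over E}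
    {a a' : T ⟶ E} (h : a = a') (e : Over.mk a ⟶ V) (e' : Over.mk a' ⟶ V) (he : e.left = e'.left)
    (x : G.obj (op V)) : ψ a (G.map e.op x) = ψ a' (G.map e'.op x) := by
  subst h
  rw [show e = e' from Over.OverMorphism.ext he]

variable [HasSheafify Jt AddCommGrpCat.{u + 1}] [Jt.WEqualsLocallyBijective AddCommGrpCat.{u + 1}]
  [HasSheafify (Jt.over E) AddCommGrpCat.{u + 1}] [(Jt.over E).WEqualsLocallyBijective AddCommGrpCat.{u + 1}]

/-- Restriction of injective modules to a slice is injective. -/
theorem injective_over (I : SheafOfModules.{u + 1} R) [Injective I] :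
    Injective ((SheafOfModules.overFunctor R E).obj I) := by
  haveI hIp : Injective ((toPre R).obj I) := Injective.injective_of_adjoint (shAdj R) I
  haveI : ∀ T : C, EnoughInjectives (ModuleCat.{u + 1} (R.obj.obj (op T))) := fun T => inferInstance
  let J : ∀ T : C, ModuleCat.{u + 1} (R.obj.obj (op T)) := fun T => Injective.under (((toPre R).obj I).obj (op T))
  let ι : ∀ T : C, ((toPre R).obj I).obj (op T) ⟶ J T := fun T => Injective.ι _
  haveI := mono_toCoind ((toPre R).obj I) ι
  let r : coind J ⟶ (toPre R).obj I := Injective.factorThru (𝟙 _) (toCoind _ ι)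
  have hr : toCoind _ ι ≫ r = 𝟙 _ := Injective.comp_factorThru _ _
  suffices Injective ((toPre (R.over E)).obj ((SheafOfModules.overFunctor R E).obj I)) by
    refine ⟨fun {G G'} g i _ => ?_⟩
    haveI := Functor.preservesMonomorphisms_of_adjunction (shAdj (R.over E))
    haveI : Mono ((toPre (R.over E)).map i) := inferInstance
    obtain ⟨h, hh⟩ := Injective.factors (J := (toPre (R.over E)).obj ((SheafOfModules.overFunctor R E).obj I))
      ((toPre (R.over E)).map g) ((toPre (R.over E)).map i)
    refine ⟨(toPre (R.over E)).preimage h, (toPre (R.over E)).map_injective ?_⟩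
    rw [Functor.map_comp, Functor.map_preimage, hh]
  refine ⟨fun {G G'} f i _ => ?_⟩
  have hφ : ∀ V : Over E, ∃ ψ : G'.obj (op V) →ₗ[R.obj.obj (op V.left)] J V.left,
      ∀ x : G.obj (op V), ψ (i.app (op V) x) = (ι V.left).hom (f.app (op V) x) := fun V => by
    let φ : G.obj (op V) ⟶ J V.left := f.app (op V) ≫ ι V.left
    haveI : Mono (i.app (op V)) := inferInstanceAs (Mono ((PresheafOfModules.evaluation _ (op V)).map i))
    exact ⟨(Injective.factorThru φ (i.app (op V))).hom, fun x =>
      ConcreteCategory.congr_hom (Injective.comp_factorThru φ (i.app (op V))) x⟩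
  choose ψ hψ using hφ
  let F : ∀ V : (Over E)ᵒᵖ, G'.obj V → (coind J).obj (op V.unop.left) := fun V x T g =>
    ψ (Over.mk (g ≫ V.unop.hom)) (G'.map (Over.homMk g : Over.mk (g ≫ V.unop.hom) ⟶ V.unop).op x)
  have hFadd : ∀ V x y, F V (x + y) = F V x + F V y := fun V x y => funext fun T => funext fun g => by
    let U : Over E := Over.mk (g ≫ V.unop.hom)
    let e : U ⟶ V.unop := Over.homMk g
    show ψ U (G'.map e.op (x + y)) = ψ U (G'.map e.op x) + ψ U (G'.map e.op y)
    exact (congrArg (ψ U) (map_add (G'.map e.op).hom x y)).trans (map_add (ψ U) _ _)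
  have hFsmul : ∀ (V : (Over E)ᵒᵖ) (c : R.obj.obj (op V.unop.left)) (x : G'.obj V), F V (c • x) = c • F V x :=
    fun V c x => funext fun T => funext fun g => by
      let U : Over E := Over.mk (g ≫ V.unop.hom)
      let e : U ⟶ V.unop := Over.homMk g
      exact (congrArg (ψ U) (G'.map_smul e.op c x)).trans
        ((ψ U).map_smul (R.obj.map g.op c) (G'.map e.op x))
  have hFnat : ∀ {V V' : (Over E)ᵒᵖ} (k : V ⟶ V') (x : G'.obj V),
      F V' (G'.map k x) = (coind J).map k.unop.left.op (F V x) := fun {V V'} k x => funext fun T => funext fun g => by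
    refine (congrArg (fun y => ψ (Over.mk (g ≫ V'.unop.hom)) y) (G'.map_comp_apply k (Over.homMk g : Over.mk (g ≫ V'.unop.hom) ⟶ V'.unop).op x).symm).trans ?_
    exact overTarget_congr E (G := G') (M := J T) (fun a => (ψ (Over.mk a)).toFun)
      (show g ≫ V'.unop.hom = (g ≫ k.unop.left) ≫ V.unop.hom by rw [Category.assoc, Over.w])
      ((Over.homMk g : Over.mk (g ≫ V'.unop.hom) ⟶ V'.unop) ≫ k.unop)
      (Over.homMk (g ≫ k.unop.left)) (by simp) x
  refine ⟨PresheafOfModules.homMk
    { app := fun V => AddCommGrpCat.ofHom (AddMonoidHom.mk' (fun x => r.app (op V.unop.left) (F V x))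
        fun x y => (congrArg _ (hFadd V x y)).trans (map_add _ _ _))
      naturality := fun V V' k => AddCommGrpCat.hom_ext (DFunLike.ext _ _ fun x =>
        (congrArg (r.app (op V'.unop.left)) (hFnat k x)).trans
          (PresheafOfModules.naturality_apply r k.unop.left.op (F V x))) }
    (fun V c x => (congrArg _ (hFsmul V c x)).trans ((r.app (op V.unop.left)).hom.map_smul c (F V x))), ?_⟩
  ext ⟨V⟩ x
  have h1 : F (op V) (i.app (op V) x) = (toCoind _ ι).app (op V.left) (f.app (op V) x) :=
    funext fun T => funext fun g => by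
      refine (congrArg (fun y => ψ (Over.mk (g ≫ V.hom)) y) (PresheafOfModules.naturality_apply i
        (Over.homMk g : Over.mk (g ≫ V.hom) ⟶ V).op x).symm).trans ?_
      refine (hψ _ _).trans ?_
      exact congrArg (ι T).hom (PresheafOfModules.naturality_apply f (Over.homMk g : Over.mk (g ≫ V.hom) ⟶ V).op x)
  refine (congrArg (r.app (op V.left)) h1).trans ?_
  exact ConcreteCategory.congr_hom
    (congrArg (fun z : (toPre R).obj I ⟶ (toPre R).obj I => z.app (op V.left)) hr) (f.app (op V) x)

end Restrict

end Groth.AlgSpRlim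

end
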