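import Groth.Agent.ModEtQCoh.Exact
import Groth.Agent.ModEtQCoh.Presented
import Groth.Agent.ModEtQCoh.Coherent
import Groth.Prelude.Def_AlgSpPerf

/-!
# Base change for modules on a slice of the small etale site

Kernels, cokernels, retracts and finite free modules have base change on affine objects of a slice, hence
so does the homology of a strictly perfect complex.
-/

set_option autoImplicit false
set_option backward.isDefEq.respectTransparency.types false
set_option maxHeartbeats 1000000
universe u

open CategoryTheory CategoryTheory.Limits AlgebraicGeometry Opposite AlgSp TensorProduct Groth.ModEtQCoh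

namespace Groth.AlgSpRlim

variable {S : Scheme.{u}} {X : Sp S} {Y : EtOver X}

/-- Restriction between affine objects of the slice is base change. -/
def HasBCO (K : ModOver Y) : Prop :=
  ∀ ⦃U V : Over Y⦄ [IsAffine U.left.obj.left.left] [IsAffine V.left.obj.left.left] (g : V ⟶ U), IsBC (resO K g)

theorem appO_comp_eq_zero {K L M : ModOver Y} {p : K ⟶ L} {q : L ⟶ M} (w : p ≫ q = 0) (U : Over Y) (s : SecO K U) :
    appO q U (appO p U s) = 0 :=
  congrArg (fun k : K ⟶ M => appO k U s) w

theorem appO_injective_of_mono {K L : ModOver Y} (p : K ⟶ L) [Mono p] (U : Over Y) :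
    Function.Injective (appO p U) := by
  rw [← LinearMap.ker_eq_bot, Submodule.eq_bot_iff]
  intro s hs
  obtain ⟨κ, hκ⟩ := exists_kernel_preimage p (show appO p U s = 0 from hs)
  rw [← hκ]
  exact congrArg (fun k : kernel p ⟶ K => appO k U κ) (kernel.ι_of_mono p)

theorem hasBCO_of_retract {K L : ModOver Y} (i : K ⟶ L) (p : L ⟶ K) (hip : i ≫ p = 𝟙 K) (hL : HasBCO L) :
    HasBCO K := by
  intro U V _ _ g
  have hret : ∀ (W : Over Y) (s : SecO K W), appO p W (appO i W s) = s := fun W s =>
    congrArg (fun k : K ⟶ K => appO k W s) hip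
  have h₁ : ∀ z, bcLift (resO L g) (mapN (resA g.left) (appO i U) z) = appO i V (bcLift (resO K g) z) :=
    fun z => bcLift_mapN (resO K g) (resO L g) (appO i U) (appO i V) (fun s => (appO_resO i g s).symm) z
  have h₂ : ∀ z, bcLift (resO K g) (mapN (resA g.left) (appO p U) z) = appO p V (bcLift (resO L g) z) :=
    fun z => bcLift_mapN (resO L g) (resO K g) (appO p U) (appO p V) (fun s => (appO_resO p g s).symm) z
  refine ⟨fun z z' hzz => ?_, fun s => ?_⟩
  · let := (resA g.left).toAlgebra
    have e : ∀ z, mapN (resA g.left) (appO p U) (mapN (resA g.left) (appO i U) z) = z := fun z => by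
      induction z using TensorProduct.induction_on with
      | zero => simp
      | tmul b n =>
        show mapN (resA g.left) (appO p U) (b ⊗ₜ appO i U n) = _
        exact congrArg (b ⊗ₜ[fnA U.left] ·) (hret U n)
      | add a b ha hb => simp only [map_add, ha, hb]
    rw [← e z, ← e z']
    refine congrArg _ ((hL g).1 ?_)
    rw [h₁, h₁, hzz]
  · obtain ⟨z, hz⟩ := (hL g).2 (appO i V s)
    exact ⟨_, (h₂ z).trans ((congrArg (appO p V) hz).trans (hret V s))⟩

theorem hasBCO_of_iso {K L : ModOver Y} (e : K ≅ L) (hL : HasBCO L) : HasBCO K :=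
  hasBCO_of_retract e.hom e.inv e.hom_inv_id hL

theorem hasBCO_free (I : Type (u + 1)) : HasBCO (freeO Y I) := by
  intro U V _ _ g
  have hs : Function.Surjective (eFree I U) := surjective_of_isBC_id (eFree I U) (isBC_eFree I U U (𝟙 U))
  have key : ∀ z, bcLift (resO (freeO Y I) g) (mapN (resA g.left) (eFree I U) z) =
      bcLift (slO (freeO Y I) (eFree I U) g) z := fun z =>
    bcLift_mapN (slO (freeO Y I) (eFree I U) g) (resO (freeO Y I) g) (eFree I U) LinearMap.id (fun _ => rfl) z
  have hs' := mapN_surjective (resA g.left) hs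
  refine ⟨fun z z' hzz => ?_, fun s => ?_⟩
  · obtain ⟨w, rfl⟩ := hs' z
    obtain ⟨w', rfl⟩ := hs' z'
    rw [key, key] at hzz
    rw [(isBC_eFree I U V g).1 hzz]
  · obtain ⟨w, hw⟩ := (isBC_eFree I U V g).2 s
    exact ⟨_, (key w).trans hw⟩

theorem hasBCO_kernel {K L : ModOver Y} (hK : HasBCO K) (hL : HasBCO L) (p : K ⟶ L) : HasBCO (kernel p) := by
  intro U V _ _ g
  exact isBC_of_equalizer (flat_resA g.left) (resO (kernel p) g) (resO K g) (resO L g) (appO (kernel.ι p) U)
    (appO p U) 0 (appO (kernel.ι p) V) (appO p V) 0 (appO_injective_of_mono _ U)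
    (appO_comp_eq_zero (kernel.condition p) U) (fun _ hy => exists_kernel_preimage p hy)
    (appO_injective_of_mono _ V) (appO_comp_eq_zero (kernel.condition p) V) (appO_resO (kernel.ι p) g)
    (appO_resO p g) (fun y => (map_zero (resO L g)).symm) (hK g) (hL g)

theorem hasBCO_of_cokernel {M N I Q : ModOver Y} (hM : HasBCO M) (hN : HasBCO N) (p : M ⟶ N) (π : N ⟶ Q) [Epi π]
    (a : M ⟶ I) [Epi a] (b : I ⟶ N) (hab : a ≫ b = p) (w : p ≫ π = 0)
    (hex : ∀ (W : Over Y) (y : SecO N W), appO π W y = 0 → ∃ κ, appO b W κ = y) : HasBCO Q := by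
  intro U V _ _ g₀
  let T : SecO M U →ₗ[fnA U.left] SecO N U := appO p U
  let q := (LinearMap.range T).mkQ
  let φ₀ : SecO N U ⧸ LinearMap.range T →ₗ[fnA U.left] SecO Q U :=
    (LinearMap.range T).liftQ (appO π U) (by
      rintro _ ⟨m, rfl⟩
      exact appO_comp_eq_zero w U m)
  have hbc : ∀ (W : Over Y) [IsAffine W.left.obj.left.left] (g : W ⟶ U), IsBC (slO Q φ₀ g) := by
    intro W _ g
    refine isBC_of_local ?_ ?_ W g
    · intro W _ k z hz
      obtain ⟨z₁, rfl⟩ := mapN_surjective (resA k.left) (Submodule.mkQ_surjective (LinearMap.range T)) z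
      rw [bcLift_mapN (resO N k) (slO Q φ₀ k) q (appO π W)
        (fun n => (appO_resO π k n).symm) z₁] at hz
      obtain ⟨κ, hκ⟩ := hex W _ hz
      obtain ⟨n, W', h, hW, hcov, hl⟩ := exists_local_preimage a κ
      refine ⟨n, W', h, hW, hcov, fun i => ?_⟩
      haveI := hW i
      obtain ⟨t, ht⟩ := hl i
      obtain ⟨zM, rfl⟩ := (hM (h i ≫ k)).2 t
      have key : mapTens (resA k.left) (resA (h i).left) _ (resA (h i ≫ k).left) (fun _ => rfl) z₁ =
          mapN (resA (h i ≫ k).left) T zM := by
        refine (hN (h i ≫ k)).1 ?_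
        rw [bcLift_mapTens (resO N k) (fun _ => rfl) (resO N (h i ≫ k)) (resO N (h i))
            (fun n => resO_comp N (h i) k n) z₁,
          bcLift_mapN (resO M (h i ≫ k)) (resO N (h i ≫ k)) T (appO p (W' i))
            (fun m => (appO_resO p (h i ≫ k) m).symm) zM]
        exact (congrArg (resO N (h i)) hκ.symm).trans ((appO_resO b (h i) κ).symm.trans
          ((congrArg (appO b (W' i)) ht.symm).trans
            (congrArg (fun f : M ⟶ N => appO f (W' i) (bcLift (resO M (h i ≫ k)) zM)) hab)))
      show mapTens (resA k.left) (resA (h i).left) _ (resA (h i ≫ k).left) (fun _ => rfl)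
        (mapN (resA k.left) q z₁) = 0
      rw [mapTens_mapN, key]
      exact mapN_mapN_eq_zero _ (LinearMap.range_mkQ_comp T) zM
    · intro W _ k s
      obtain ⟨n, W', h, hW, hcov, hl⟩ := exists_local_preimage π (U := W) s
      refine ⟨n, W', h, hW, hcov, fun i => ?_⟩
      haveI := hW i
      obtain ⟨t, ht⟩ := hl i
      obtain ⟨z₁, rfl⟩ := (hN (h i ≫ k)).2 t
      exact ⟨mapN (resA (h i ≫ k).left) q z₁,
        (bcLift_mapN (resO N (h i ≫ k)) (slO Q φ₀ (h i ≫ k)) q (appO π (W' i))
          (fun n => (appO_resO π (h i ≫ k) n).symm) z₁).trans ht⟩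
  have key : ∀ z, bcLift (resO Q g₀) (mapN (resA g₀.left) φ₀ z) =
      bcLift (slO Q φ₀ g₀) z := fun z =>
    bcLift_mapN (slO Q φ₀ g₀) (resO Q g₀) φ₀ LinearMap.id (fun _ => rfl) z
  have hs := mapN_surjective (resA g₀.left) (surjective_of_isBC_id φ₀ (hbc U (𝟙 _)))
  refine ⟨fun z z' hzz => ?_, fun s => ?_⟩
  · obtain ⟨w, rfl⟩ := hs z
    obtain ⟨w', rfl⟩ := hs z'
    exact congrArg (mapN (resA g₀.left) φ₀) ((hbc V g₀).1 ((key _).symm.trans (hzz.trans (key _))))
  · obtain ⟨w, hw⟩ := (hbc V g₀).2 s
    exact ⟨_, (key w).trans hw⟩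

theorem hasBCO_cokernel {M N : ModOver Y} (hM : HasBCO M) (hN : HasBCO N) (p : M ⟶ N) :
    HasBCO (cokernel p) :=
  hasBCO_of_cokernel hM hN p (cokernel.π p) (Abelian.factorThruImage p) (kernel.ι (cokernel.π p))
    (Abelian.image.fac p) (cokernel.condition p) fun _ _ hy => exists_kernel_preimage (cokernel.π p) hy

theorem hasBCO_homology {C : ShortComplex (ModOver Y)} (h₁ : HasBCO C.X₁) (h₂ : HasBCO C.X₂) (h₃ : HasBCO C.X₃) :
    HasBCO C.homology :=
  hasBCO_of_iso (C.homologyIsoCokernelLift) (hasBCO_cokernel h₁ (hasBCO_kernel h₂ h₃ C.g) _)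

theorem hasBCO_homology_of_isStrictlyPerfect {E : CochainComplex (ModOver Y) ℤ}
    (hE : DCoh.IsStrictlyPerfectMod ((OEtRing X).over Y) E) (i : ℤ) : HasBCO (E.homology i) := by
  have h : ∀ j, HasBCO (E.X j) := fun j => by
    obtain ⟨n, a, b, hab⟩ := hE.2 j
    exact hasBCO_of_retract a b hab (hasBCO_free _)
  exact hasBCO_homology (h _) (h _) (h _)

theorem isBC_resM_of_hasBCO (M : ModEt X) (E : EtOver X) [IsAffine E.obj.left.left] (h : HasBCO (M.over E))
    (U : Over E) [IsAffine U.left.obj.left.left] : IsBC (resM M (toTopO U).left) := by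
  haveI : IsAffine (topO E).left.obj.left.left := ‹IsAffine E.obj.left.left›
  show IsBC (resO (M.over E) (toTopO U))
  exact h (toTopO U)

theorem exists_presentation_over (M : ModEt X) (E : EtOver X) [IsAffine E.obj.left.left]
    (hM : ∀ (U : Over E) [IsAffine U.left.obj.left.left], IsBC (resM M (toTopO U).left)) :
    Nonempty (M.over E).Presentation := by
  let c := Finsupp.linearCombination (fnA E) (id : sectModEt M E → sectModEt M E)
  have hc : Function.Surjective c := fun s => ⟨Finsupp.single s 1, by simp [c]⟩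
  haveI : IsAffine (topO E).left.obj.left.left := ‹IsAffine E.obj.left.left›
  obtain ⟨π, hπ, ρ, hρ⟩ := exists_epi_pair M hM (I := sectModEt M E) id hc
    (J := LinearMap.ker c) (fun j => j.1) (by
      rw [Finsupp.range_linearCombination]
      exact (congrArg (Submodule.span (fnA E)) Subtype.range_val).trans (Submodule.span_eq _))
  let gens : (M.over E).GeneratingSections :=
    ⟨_, (M.over E).freeHomEquiv π, by rw [Equiv.symm_apply_apply]; exact hπ⟩
  have hg : π = gens.π := (Equiv.symm_apply_apply _ _).symm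
  exact ⟨⟨gens, ⟨_, (kernel gens.π).freeHomEquiv (ρ ≫ (kernelIsoOfEq hg).hom), by
    rw [Equiv.symm_apply_apply]; infer_instance⟩⟩⟩

/-- A module which has base change on affine objects over each member of a covering is quasi-coherent. -/
theorem isQuasicoherent_of_local_hasBCO {M : ModEt X}
    (h : (etTop X).CoversTop fun E : {E : EtOver X // IsAffine E.obj.left.left ∧ HasBCO (M.over E)} => E.1) :
    M.IsQuasicoherent := by
  have p : ∀ E : {E : EtOver X // IsAffine E.obj.left.left ∧ HasBCO (M.over E)}, (M.over E.1).Presentation :=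
    fun E => haveI := E.2.1
      (exists_presentation_over M E.1 (isBC_resM_of_hasBCO M E.1 E.2.2)).some
  exact (SheafOfModules.QuasicoherentData.mk (M := M)
    {E : EtOver X // IsAffine E.obj.left.left ∧ HasBCO (M.over E)} (fun E => E.1) h p).isQuasicoherent

/-- Base change over an object passes to every object over it. -/
theorem hasBCO_over_of_hom (M : ModEt X) {E V : EtOver X} (f : E ⟶ V) (h : HasBCO (M.over V)) :
    HasBCO (M.over E) := by
  intro U W _ _ g
  haveI : IsAffine ((Over.map f).obj U).left.obj.left.left := ‹IsAffine U.left.obj.left.left›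
  haveI : IsAffine ((Over.map f).obj W).left.obj.left.left := ‹IsAffine W.left.obj.left.left›
  exact h ((Over.map f).map g)

end Groth.AlgSpRlim
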