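import Groth.Agent.AlgSpRlim.Site
import Groth.Agent.AlgSpRlim.Slice

/-!
# Vanishing on a slice from vanishing of `Ext` out of the free module
-/

set_option autoImplicit false
set_option backward.isDefEq.respectTransparency false
set_option linter.style.haveILetI false
set_option maxHeartbeats 1000000
universe u

open CategoryTheory CategoryTheory.Limits AlgebraicGeometry Opposite AlgSp Groth.ModEtQCoh Abelian

attribute [local instance] HasDerivedCategory.standard

noncomputable section

namespace Groth.AlgSpRlim

variable {S : Scheme.{u}} {X : Sp S} (E : EtOver X)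

instance hasExt_modEtOn : HasExt.{u + 1} (ModEtOn E) := hasExt_sheafOfModules (OEtOn E)

variable {E}

/-- The unit on a slice maps to a restricted module by sections over the base. -/
def ofSect (M : ModEt X) (w : sectModEt M E) : SheafOfModules.unit (OEtOn E) ⟶ (resModEt E).obj M :=
  ((resModEt E).obj M).unitHomEquiv.symm
    (PresheafOfModules.sectionsMk (M := ((resModEt E).obj M).val) (fun V => resM M V.unop.hom w) fun V V' k => by
      show resM M k.unop.left (resM M V.unop.hom w) = resM M V'.unop.hom w
      rw [← resM_comp, Over.w])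

lemma ofSect_unique {M : ModEt X} (φ : SheafOfModules.unit (OEtOn E) ⟶ (resModEt E).obj M) :
    ofSect M ((((resModEt E).obj M).unitHomEquiv φ).val (op (Over.mk (𝟙 E)))) = φ := by
  refine ((resModEt E).obj M).unitHomEquiv.injective (Subtype.ext (funext fun V => ?_))
  refine (congrArg (fun z : ((resModEt E).obj M).sections => z.val V) (Equiv.apply_symm_apply _ _)).trans ?_
  exact PresheafOfModules.sections_property (((resModEt E).obj M).unitHomEquiv φ)
    (Over.homMk V.unop.hom : V.unop ⟶ Over.mk (𝟙 E)).op

lemma ofSect_comp {M N : ModEt X} (g : M ⟶ N) (w : sectModEt M E) :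
    ofSect M w ≫ (resModEt E).map g = ofSect N (appM g E w) := by
  refine ((resModEt E).obj N).unitHomEquiv.injective (Subtype.ext (funext fun V => ?_))
  rw [SheafOfModules.unitHomEquiv_comp_apply]
  refine Eq.trans ?_ (congrArg (fun z : ((resModEt E).obj N).sections => z.val V) (Equiv.apply_symm_apply _ _)).symm
  refine (congrArg (((resModEt E).map g).val.app V)
    (congrArg (fun z : ((resModEt E).obj M).sections => z.val V) (Equiv.apply_symm_apply _ _))).trans ?_
  exact appM_resM g V.unop.hom w

variable (E)

/-- Vanishing transfers to the slice. -/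
theorem subsingleton_ext_slice : ∀ (n : ℕ) (L : ModEt X), NoExt.{u + 1} (pE E) L →
    Subsingleton (Ext.{u + 1} (SheafOfModules.unit (OEtOn E)) ((resModEt E).obj L) (n + 1)) := by
  intro n
  induction n with
  | zero =>
    intro L hL
    let C := ShortComplex.mk (Injective.ι L) (cokernel.π (Injective.ι L)) (cokernel.condition _)
    have hC : C.ShortExact :=
      { exact := ShortComplex.exact_of_g_is_cokernel _ (cokernelIsCokernel (Injective.ι L)) }
    have hC' : (C.map (resModEt E)).ShortExact := hC.map_of_exact (resModEt E)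
    haveI : Injective (C.map (resModEt E)).X₂ := injective_over (OEtRing X) E (Injective.under L)
    refine subsingleton_of_forall_eq 0 fun x => ?_
    obtain ⟨y, rfl⟩ := Ext.covariant_sequence_exact₁ _ hC' x (Ext.eq_zero_of_injective _) (zero_add 1)
    obtain ⟨φ, rfl⟩ := Ext.addEquiv₀.symm.surjective y
    let s := (((resModEt E).obj C.X₃).unitHomEquiv φ).val (op (Over.mk (𝟙 E)))
    obtain ⟨z, hz⟩ := Ext.covariant_sequence_exact₃ (pE E) hC (Ext.mk₀ ((pHom E C.X₃).symm s)) (zero_add 1)
      ((hL 0).elim _ _)
    obtain ⟨χ, rfl⟩ := Ext.addEquiv₀.symm.surjective z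
    have hχ : χ ≫ C.g = (pHom E C.X₃).symm s := by
      apply (Ext.mk₀_bijective _ _).1
      rw [← hz, ← Ext.mk₀_comp_mk₀]
      rfl
    have hs : appM C.g E (pHom E _ χ) = s := by
      rw [← pHom_comp, hχ, AddEquiv.apply_symm_apply]
    have hψ : ofSect C.X₂ (pHom E _ χ) ≫ (C.map (resModEt E)).g = φ :=
      (ofSect_comp C.g _).trans ((congrArg (ofSect C.X₃) hs).trans (ofSect_unique φ))
    rw [← hψ]
    show (Ext.mk₀ (ofSect C.X₂ (pHom E _ χ) ≫ (C.map (resModEt E)).g)).comp hC'.extClass _ = 0
    rw [← Ext.mk₀_comp_mk₀, Ext.comp_assoc_of_second_deg_zero, hC'.comp_extClass, Ext.comp_zero]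
  | succ n ih =>
    intro L hL
    let C := ShortComplex.mk (Injective.ι L) (cokernel.π (Injective.ι L)) (cokernel.condition _)
    have hC : C.ShortExact :=
      { exact := ShortComplex.exact_of_g_is_cokernel _ (cokernelIsCokernel (Injective.ι L)) }
    have hC' : (C.map (resModEt E)).ShortExact := hC.map_of_exact (resModEt E)
    haveI : Injective (C.map (resModEt E)).X₂ := injective_over (OEtRing X) E (Injective.under L)
    have hQ : NoExt.{u + 1} (pE E) C.X₃ := fun m => subsingleton_of_forall_eq 0 fun x => by
      obtain ⟨z, rfl⟩ := Ext.covariant_sequence_exact₃ (pE E) hC x rfl ((hL (m + 1)).elim _ _)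
      rw [Ext.eq_zero_of_injective z, Ext.zero_comp]
    have := ih _ hQ
    refine subsingleton_of_forall_eq 0 fun x => ?_
    obtain ⟨y, rfl⟩ := Ext.covariant_sequence_exact₁ _ hC' x (Ext.eq_zero_of_injective _) rfl
    rw [show y = 0 from this.elim _ _, Ext.zero_comp]

/-- No higher cohomology on the slice. -/
theorem subsingleton_HEtDOn (L : ModEt X) (hL : NoExt.{u + 1} (pE E) L) (p : ℤ) (hp : 0 < p) :
    Subsingleton (AlgSp.HEtDOn E (DCoh.inDMod (OEtRing X) L) p) := by
  have h := subsingleton_hom_shift (P := SheafOfModules.unit (OEtOn E)) (M := (resModEt E).obj L)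
    (fun n => subsingleton_ext_slice E n L hL) p hp
  exact @Equiv.subsingleton _ _ ((Iso.refl _).homCongr ((shiftFunctor _ p).mapIso
    (((resModEt E).mapDerivedCategorySingleFunctor 0).app L))) h

end Groth.AlgSpRlim

end
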