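import Groth.Agent.AlgSpRlim.Site

/-!
# Sections of cohomology sheaves of derived limits
-/

set_option autoImplicit false
set_option backward.isDefEq.respectTransparency false
set_option linter.style.haveILetI false
set_option maxHeartbeats 1000000
universe u

open CategoryTheory CategoryTheory.Limits AlgebraicGeometry Opposite AlgSp Groth.ModEtQCoh Pretriangulated DerivedCategory

attribute [local instance] HasDerivedCategory.standard

noncomputable section

namespace Groth.AlgSpRlim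

variable {S : Scheme.{u}} {X : Sp S}

/-- Cohomology sheaves. -/
abbrev Hq (q : ℤ) : DModEt X ⥤ ModEt X := homologyFunctor (ModEt X) q

section Tower

variable (K : ℕ → DModEt X) (t : ∀ n, K (n + 1) ⟶ K n)

/-- Levels computed by affine sections with surjective transition maps. -/
structure TowerGood : Prop where
  bij : ∀ n q (E : EtOver X), IsAffine E.obj.left.left → Function.Bijective (sel E q (K n))
  surj : ∀ n q (E : EtOver X), IsAffine E.obj.left.left → Function.Surjective (appM ((Hq q).map (t n)) E)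

variable {K t}

lemma exists_solve (h : TowerGood K t) {E : EtOver X} (hE : IsAffine E.obj.left.left) (q : ℤ)
    (g : ∀ n, gObj E q ⟶ K n) : ∃ g' : ∀ n, gObj E q ⟶ K n, ∀ n, g n = g' n - g' (n + 1) ≫ t n := by
  have step : ∀ n (x : gObj E q ⟶ K n), ∃ x', x' ≫ t n = x - g n := fun n x => by
    obtain ⟨y, hy⟩ := h.surj n q E hE (sel E q (K n) (x - g n))
    obtain ⟨x', rfl⟩ := (h.bij (n + 1) q E hE).2 y
    exact ⟨x', (h.bij n q E hE).1 ((sel_comp x' (t n)).trans hy)⟩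
  choose f hf using step
  exact ⟨fun n => Nat.rec 0 (fun m x => f m x) n, fun n => by
    show g n = _ - f n _ ≫ t n
    rw [hf, sub_sub_cancel]⟩

variable [HasProduct K] {L : DModEt X} (a : L ⟶ ∏ᶜ K) (c : (∏ᶜ K) ⟶ L⟦(1 : ℤ)⟧)
  (hdist : Triangle.mk a (Pi.lift fun n : ℕ => Pi.π K n - Pi.π K (n + 1) ≫ t n) c ∈ distTriang _)

include hdist

lemma comp_t (n : ℕ) : (a ≫ Pi.π K (n + 1)) ≫ t n = a ≫ Pi.π K n := by
  have h := congrArg (· ≫ Pi.π K n) (comp_distTriang_mor_zero₁₂ _ hdist)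
  simp only [Triangle.mk_mor₁, Triangle.mk_mor₂, Category.assoc, Pi.lift_π, zero_comp,
    Preadditive.comp_sub, sub_eq_zero] at h
  rw [Category.assoc, ← h]

lemma comp_t_Hq (n : ℕ) (q : ℤ) {W : EtOver X} (s : sectModEt ((Hq q).obj L) W) :
    appM ((Hq q).map (t n)) W (appM ((Hq q).map (a ≫ Pi.π K (n + 1))) W s) =
      appM ((Hq q).map (a ≫ Pi.π K n)) W s := by
  rw [← appM_comp, ← Functor.map_comp, comp_t a c hdist n]

lemma lim_inj (h : TowerGood K t) {E : EtOver X} (hE : IsAffine E.obj.left.left) {q : ℤ} (ξ : gObj E q ⟶ L)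
    (hξ : ∀ n, ξ ≫ a ≫ Pi.π K n = 0) : ξ = 0 := by
  have h0 : ξ ≫ a = 0 := Pi.hom_ext _ _ fun n => by rw [Category.assoc, hξ, zero_comp]
  obtain ⟨g, hg⟩ := Triangle.coyoneda_exact₁ _ hdist (ξ⟦(1 : ℤ)⟧') (by
    rw [Triangle.mk_mor₁, ← Functor.map_comp, h0, Functor.map_zero])
  let σ : (gObj E q)⟦(1 : ℤ)⟧ ≅ gObj E (q - 1) :=
    ((singleFunctors (ModEt X)).shiftIso 1 (q - 1) q (by omega)).app (pE E)
  obtain ⟨g', hg'⟩ := exists_solve h hE (q - 1) fun n => σ.inv ≫ g ≫ Pi.π K n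
  have hg2 : g = (σ.hom ≫ Pi.lift g') ≫ Pi.lift (fun n : ℕ => Pi.π K n - Pi.π K (n + 1) ≫ t n) := by
    refine Pi.hom_ext _ _ fun n => ?_
    rw [← cancel_epi σ.inv, hg' n]
    simp
  have h1 : ξ⟦(1 : ℤ)⟧' = 0 := by
    rw [hg, hg2]
    exact (Category.assoc _ _ _).trans
      ((congrArg (_ ≫ ·) (comp_distTriang_mor_zero₂₃ _ hdist)).trans comp_zero)
  exact (shiftFunctor (DModEt X) (1 : ℤ)).map_injective (h1.trans (Functor.map_zero _ _ _).symm)

lemma lim_surj {E : EtOver X} {q : ℤ} (ξ : ∀ n, gObj E q ⟶ K n) (hξ : ∀ n, ξ (n + 1) ≫ t n = ξ n) :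
    ∃ η : gObj E q ⟶ L, ∀ n, η ≫ a ≫ Pi.π K n = ξ n := by
  obtain ⟨η, hη⟩ := Triangle.coyoneda_exact₂ _ hdist (Pi.lift ξ) (by
    refine Pi.hom_ext _ _ fun n => ?_
    rw [Triangle.mk_mor₂, Category.assoc, Pi.lift_π, Preadditive.comp_sub, Pi.lift_π, ← Category.assoc,
      Pi.lift_π, hξ, sub_self, zero_comp])
  exact ⟨η, fun n => (Category.assoc _ _ _).symm.trans ((congrArg (· ≫ Pi.π K n) hη.symm).trans (Pi.lift_π _ _))⟩

theorem sections_inj (h : TowerGood K t) (q : ℤ) (W : EtOver X) (s : sectModEt ((Hq q).obj L) W)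
    (hs : ∀ n, appM ((Hq q).map (a ≫ Pi.π K n)) W s = 0) : s = 0 := by
  obtain ⟨ι, Z, b, hZ, hcov⟩ := exists_affine_cover_all W
  refine resM_ext _ hcov fun i => ?_
  haveI := hZ i
  obtain ⟨m, V, e, hV, hcov', hl⟩ := exists_local_lift L q (Z i) (resM _ (b i) s)
  rw [map_zero]
  refine resM_ext _ hcov' fun k => ?_
  obtain ⟨f, hf⟩ := hl k
  rw [map_zero, ← hf, lim_inj a c hdist h (hV k) f fun n => ?_, map_zero]
  apply (h.bij n q (V k) (hV k)).1
  rw [sel_comp, hf, appM_resM, appM_resM, hs, map_zero, map_zero, map_zero]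

theorem sections_ext (h : TowerGood K t) (q : ℤ) (W : EtOver X) (s s' : sectModEt ((Hq q).obj L) W)
    (hs : ∀ n, appM ((Hq q).map (a ≫ Pi.π K n)) W s = appM ((Hq q).map (a ≫ Pi.π K n)) W s') : s = s' :=
  sub_eq_zero.1 (sections_inj a c hdist h q W _ fun n => by rw [map_sub, hs, sub_self])

theorem sections_surj (h : TowerGood K t) (q : ℤ) (W : EtOver X) (x : ∀ n, sectModEt ((Hq q).obj (K n)) W)
    (hx : ∀ n, appM ((Hq q).map (t n)) W (x (n + 1)) = x n) :
    ∃ s, ∀ n, appM ((Hq q).map (a ≫ Pi.π K n)) W s = x n := by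
  obtain ⟨ι, Z, b, hZ, hcov⟩ := exists_affine_cover_all W
  have hloc : ∀ i, ∃ s : sectModEt ((Hq q).obj L) (Z i),
      ∀ n, appM ((Hq q).map (a ≫ Pi.π K n)) (Z i) s = resM _ (b i) (x n) := fun i => by
    choose ξ hξ using fun n => (h.bij n q (Z i) (hZ i)).2 (resM _ (b i) (x n))
    obtain ⟨η, hη⟩ := lim_surj a c hdist ξ fun n => (h.bij n q (Z i) (hZ i)).1 (by
      rw [sel_comp, hξ, hξ, appM_resM, hx])
    exact ⟨sel (Z i) q L η, fun n => by rw [← sel_comp, hη, hξ]⟩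
  choose y hy using hloc
  obtain ⟨s, hs⟩ := exists_resM_eq _ hcov y fun i j => sections_ext a c hdist h q _ _ _ fun n => by
    rw [appM_resM, appM_resM, hy, hy, ← resM_comp, ← resM_comp, EtOver.pullback_condition]
  refine ⟨s, fun n => resM_ext _ hcov fun i => ?_⟩
  rw [← appM_resM, hs, hy]

theorem bijective_sel_limit (h : TowerGood K t) {q : ℤ} {E : EtOver X} (hE : IsAffine E.obj.left.left) :
    Function.Bijective (sel E q L) := by
  refine ⟨(injective_iff_map_eq_zero _).2 fun ξ hξ => lim_inj a c hdist h hE ξ fun n => ?_, fun s => ?_⟩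
  · apply (h.bij n q E hE).1
    rw [sel_comp, hξ, map_zero, map_zero]
  · choose ξ hξ using fun n => (h.bij n q E hE).2 (appM ((Hq q).map (a ≫ Pi.π K n)) E s)
    obtain ⟨η, hη⟩ := lim_surj a c hdist ξ fun n => (h.bij n q E hE).1 (by
      rw [sel_comp, hξ, hξ, comp_t_Hq a c hdist])
    exact ⟨η, sections_ext a c hdist h q E _ _ fun n => by rw [← sel_comp, hη, hξ]⟩

end Tower

end Groth.AlgSpRlim

end
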