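import Groth.Agent.AlgSpRlim.Tower

/-!
# A complex with quasi-coherent cohomology is the derived limit of its truncations
-/

set_option autoImplicit false
set_option backward.isDefEq.respectTransparency false
set_option linter.style.haveILetI false
set_option maxHeartbeats 1000000
universe u

open CategoryTheory CategoryTheory.Limits AlgebraicGeometry Opposite AlgSp Groth.ModEtQCoh Pretriangulated DerivedCategory Triangulated

attribute [local instance] HasDerivedCategory.standard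

noncomputable section

namespace Groth.AlgSpRlim

variable {S : Scheme.{u}} {X : Sp S}

lemma mono_of_injective_appM {M N : ModEt X} (f : M ⟶ N)
    (h : ∀ E (s : sectModEt M E), appM f E s = 0 → s = 0) : Mono f :=
  Preadditive.mono_of_cancel_zero _ fun {P} x hx => by
    ext ⟨E⟩ s
    exact h E _ (congrArg (fun z : P ⟶ N => appM z E s) hx)

lemma appM_injective_of_isIso {M N : ModEt X} (f : M ⟶ N) [IsIso f] (E : EtOver X) :
    Function.Injective (appM f E) := fun x y hxy => by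
  have := congrArg (appM (inv f) E) hxy
  rw [← appM_comp, ← appM_comp, IsIso.hom_inv_id] at this
  exact this

lemma appM_surjective_of_isIso {M N : ModEt X} (f : M ⟶ N) [IsIso f] (E : EtOver X) :
    Function.Surjective (appM f E) := fun y => ⟨appM (inv f) E y, by
  rw [← appM_comp, IsIso.inv_hom_id]; rfl⟩

variable (K₀ : DModEt X)

/-- The truncations. -/
abbrev tauGE (n : ℕ) : DModEt X :=
  ((TStructure.t : TStructure (DModEt X)).truncGE (-(n : ℤ))).obj K₀

/-- The truncation morphisms. -/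
abbrev piTau (n : ℕ) : K₀ ⟶ tauGE K₀ n :=
  ((TStructure.t : TStructure (DModEt X)).truncGEπ (-(n : ℤ))).app K₀

/-- The transition morphisms of the truncations. -/
abbrev tTau (n : ℕ) : tauGE K₀ (n + 1) ⟶ tauGE K₀ n :=
  ((TStructure.t : TStructure (DModEt X)).natTransTruncGEOfLE (-((n + 1 : ℕ) : ℤ)) (-(n : ℤ))
    (Int.neg_le_neg (Int.ofNat_le.mpr (Nat.le_succ n)))).app K₀

lemma piTau_tTau (n : ℕ) : piTau K₀ (n + 1) ≫ tTau K₀ n = piTau K₀ n :=
  TStructure.π_natTransTruncGEOfLE_app _ _ _ _ _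

instance isGE_tauGE (n : ℕ) : (tauGE K₀ n).IsGE (-(n : ℤ)) :=
  inferInstanceAs (TStructure.t.IsGE (((TStructure.t : TStructure (DModEt X)).truncGE (-(n : ℤ))).obj K₀) _)

lemma isIso_Hq_piTau {n : ℕ} {q : ℤ} (h : -(n : ℤ) ≤ q) : IsIso ((Hq q).map (piTau K₀ n)) := by
  let T := ((TStructure.t : TStructure (DModEt X)).triangleLTGE (-(n : ℤ))).obj K₀
  have hT : T ∈ distTriang _ := TStructure.t.triangleLTGE_distinguished _ K₀
  haveI h1 : DerivedCategory.IsLE T.obj₁ (-(n : ℤ) - 1) :=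
    inferInstanceAs (TStructure.t.IsLE (((TStructure.t : TStructure (DModEt X)).triangleLTGE (-(n : ℤ))).obj K₀).obj₁ _)
  haveI : Mono ((Hq q).map T.mor₂) := (HomologySequence.mono_homologyMap_mor₂_iff T hT q).2
    ((T.obj₁.isZero_of_isLE (-(n : ℤ) - 1) q (by omega)).eq_of_src _ _)
  haveI : Epi ((Hq q).map T.mor₂) := (HomologySequence.epi_homologyMap_mor₂_iff T hT q (q + 1) rfl).2
    ((T.obj₁.isZero_of_isLE (-(n : ℤ) - 1) (q + 1) (by omega)).eq_of_tgt _ _)
  exact isIso_of_mono_of_epi ((Hq q).map T.mor₂)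

variable {K₀}

theorem towerGood_tau (hK : ∀ i, Good ((Hq i).obj K₀)) : TowerGood (tauGE K₀) (tTau K₀) where
  bij n q E hE := bijective_sel_of_isGE (-(n : ℤ)) (fun i => by
    by_cases hi : -(n : ℤ) ≤ i
    · haveI := isIso_Hq_piTau K₀ hi
      exact (hK i).of_iso (asIso ((Hq i).map (piTau K₀ n)))
    · exact Good.of_isZero ((tauGE K₀ n).isZero_of_isGE (-(n : ℤ)) i (by omega))) E hE q
  surj n q E _ := by
    by_cases hq : -(n : ℤ) ≤ q
    · haveI := isIso_Hq_piTau K₀ hq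
      intro y
      obtain ⟨x, rfl⟩ := appM_surjective_of_isIso ((Hq q).map (piTau K₀ n)) E y
      exact ⟨appM ((Hq q).map (piTau K₀ (n + 1))) E x, by
        rw [← appM_comp, ← Functor.map_comp, piTau_tTau]⟩
    · haveI := subsingleton_sect_of_isZero ((tauGE K₀ n).isZero_of_isGE (-(n : ℤ)) q (by omega)) E
      exact fun y => ⟨0, Subsingleton.elim (α := sectModEt ((Hq q).obj (tauGE K₀ n)) E) _ _⟩

variable [HasProduct (tauGE K₀)] {L : DModEt X} (a : L ⟶ ∏ᶜ tauGE K₀) (c : (∏ᶜ tauGE K₀) ⟶ L⟦(1 : ℤ)⟧)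
  (hdist : Triangle.mk a
    (Pi.lift fun n : ℕ => Pi.π (tauGE K₀) n - Pi.π (tauGE K₀) (n + 1) ≫ tTau K₀ n) c ∈ distTriang _)

include hdist

theorem isIso_of_comp (hK : ∀ i, Good ((Hq i).obj K₀)) (φ : K₀ ⟶ L)
    (hφ : ∀ n, φ ≫ a ≫ Pi.π (tauGE K₀) n = piTau K₀ n) : IsIso φ := by
  rw [DerivedCategory.isIso_iff]
  intro q
  change IsIso ((Hq q).map φ)
  have hN : -(((-q).toNat : ℕ) : ℤ) ≤ q := by omega
  set N := (-q).toNat
  haveI hcomp : IsIso ((Hq q).map φ ≫ (Hq q).map (a ≫ Pi.π (tauGE K₀) N)) := by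
    rw [← Functor.map_comp, hφ]
    exact isIso_Hq_piTau K₀ hN
  haveI : Mono ((Hq q).map (a ≫ Pi.π (tauGE K₀) N)) := mono_of_injective_appM _ fun E s hs => by
    refine sections_inj a c hdist (towerGood_tau hK) q E s fun n => ?_
    rcases le_total N n with h | h
    · induction n, h using Nat.le_induction with
      | base => exact hs
      | succ n hn ih =>
        haveI := isIso_Hq_piTau K₀ (show -(n : ℤ) ≤ q by omega)
        haveI := isIso_Hq_piTau K₀ (show -((n + 1 : ℕ) : ℤ) ≤ q by omega)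
        haveI : IsIso ((Hq q).map (piTau K₀ (n + 1)) ≫ (Hq q).map (tTau K₀ n)) := by
          rw [← Functor.map_comp, piTau_tTau]
          infer_instance
        haveI := IsIso.of_isIso_comp_left ((Hq q).map (piTau K₀ (n + 1))) ((Hq q).map (tTau K₀ n))
        apply appM_injective_of_isIso ((Hq q).map (tTau K₀ n)) E
        rw [comp_t_Hq a c hdist, map_zero, ih]
    · induction h using Nat.decreasingInduction with
      | self => exact hs
      | of_succ k _ ih => rw [← comp_t_Hq a c hdist k q s, ih, map_zero]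
  haveI : IsSplitEpi ((Hq q).map (a ≫ Pi.π (tauGE K₀) N)) :=
    IsSplitEpi.mk' ⟨inv ((Hq q).map φ ≫ (Hq q).map (a ≫ Pi.π (tauGE K₀) N)) ≫ (Hq q).map φ, by simp⟩
  haveI := isIso_of_mono_of_isSplitEpi ((Hq q).map (a ≫ Pi.π (tauGE K₀) N))
  exact IsIso.of_isIso_comp_right ((Hq q).map φ) ((Hq q).map (a ≫ Pi.π (tauGE K₀) N))

omit hdist a c in
/-- The truncations exhibit the complex as their derived limit. -/
theorem exists_triangle_tau (hK : ∀ i, Good ((Hq i).obj K₀)) :
    ∃ c' : (∏ᶜ tauGE K₀) ⟶ K₀⟦(1 : ℤ)⟧,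
      Triangle.mk (Pi.lift fun n => piTau K₀ n)
        (Pi.lift fun n : ℕ => Pi.π (tauGE K₀) n - Pi.π (tauGE K₀) (n + 1) ≫ tTau K₀ n) c' ∈ distTriang _ := by
  obtain ⟨L', a', c', hd⟩ := distinguished_cocone_triangle₁
    (Pi.lift fun n : ℕ => Pi.π (tauGE K₀) n - Pi.π (tauGE K₀) (n + 1) ≫ tTau K₀ n)
  obtain ⟨φ, hφ⟩ := Triangle.coyoneda_exact₂ _ hd (Pi.lift fun n => piTau K₀ n) (Pi.hom_ext _ _ fun n => by
    rw [Triangle.mk_mor₂, Category.assoc, Pi.lift_π, Preadditive.comp_sub, Pi.lift_π, ← Category.assoc,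
      Pi.lift_π, piTau_tTau, sub_self, zero_comp])
  have hφ' : ∀ n, φ ≫ a' ≫ Pi.π (tauGE K₀) n = piTau K₀ n := fun n =>
    (Category.assoc _ _ _).symm.trans ((congrArg (· ≫ Pi.π (tauGE K₀) n) hφ.symm).trans (Pi.lift_π _ _))
  haveI := isIso_of_comp a' c' hd hK φ hφ'
  refine ⟨c' ≫ (inv φ)⟦(1 : ℤ)⟧', isomorphic_distinguished _ hd _
    (Triangle.isoMk _ _ (asIso φ) (Iso.refl _) (Iso.refl _) ?_ ?_ ?_)⟩
  · refine (Category.comp_id _).trans ?_
    exact hφ
  · exact (Category.comp_id _).trans (Category.id_comp _).symm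
  · refine Eq.trans ?_ (Category.id_comp _).symm
    show (c' ≫ (inv φ)⟦(1 : ℤ)⟧') ≫ φ⟦(1 : ℤ)⟧' = c'
    rw [Category.assoc, ← Functor.map_comp, IsIso.inv_hom_id, CategoryTheory.Functor.map_id, Category.comp_id]

end Groth.AlgSpRlim

end
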